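import Cfsg.Agent.Lib.LargeNine45.Axis

/-!
Fixed points and commutators of an element of order `3` modulo `X` (helper45).
-/

set_option autoImplicit false

namespace Cfsg.Agent.Lib.LargeNine45

open Equiv LargeExtra
open scoped commutatorElement

theorem sign_invol_three : ∀ s : P3, s * s = 1 → s ≠ 1 → Perm.sign s = -1 := by decide +kernel

theorem sign_three_cycle : ∀ p : P3, p ^ 3 = 1 → Perm.sign p = 1 := by decide +kernel

theorem three_fst : ∀ p : P3, p ^ 3 = 1 → p ≠ 1 → ∀ s : P3, s * s = 1 → s ≠ 1 →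
    p ≠ s ∧ p ^ 2 ≠ 1 ∧ p ^ 2 ≠ s ∧ p * s * p⁻¹ * s ≠ 1 ∧ p * s * p⁻¹ * s ≠ s := by decide +kernel

variable {H : Type*} [Group H] [Finite H] {X : Subgroup H} {z : H} {φ : H →* T}
variable [(Subgroup.zpowers z).Normal]

local notation "π" => pz z

/-- A subgroup whose elements outside `P` lie in one coset has order at most `2|P|`. -/
theorem card_le_two_mul {M P : Subgroup H} (hP : P ≤ M)
    (h : ∀ x ∈ M, x ∉ P → ∀ y ∈ M, y ∉ P → x⁻¹ * y ∈ P) : Nat.card M ≤ 2 * Nat.card P := by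
  by_cases hall : ∀ x ∈ M, x ∈ P
  · have := Subgroup.card_le_of_le (show M ≤ P from hall); omega
  push Not at hall
  obtain ⟨x0, hx0, hx0P⟩ := hall
  have hsub : (M : Set H) ⊆ (P : Set H) ∪ (x0 * ·) '' (P : Set H) := fun y hy => by
    by_cases hyP : y ∈ P
    · exact Or.inl hyP
    · exact Or.inr ⟨x0⁻¹ * y, h x0 hx0 hx0P y hy hyP, by group⟩
  have h1 := (Set.ncard_le_ncard hsub (Set.toFinite _)).trans (Set.ncard_union_le _ _)
  rw [Set.ncard_image_of_injective _ (mul_right_injective x0), ← Nat.card_coe_set_eq,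
    ← Nat.card_coe_set_eq] at h1
  have h2 : Nat.card ↥M ≤ Nat.card ↥P + Nat.card ↥P := h1
  omega

namespace Base

theorem card_pow_two (B : Base X z φ) {Y : Subgroup H} (hY : Y ≤ X) :
    ∃ k, k ≤ 9 ∧ Nat.card Y = 2 ^ k :=
  (Nat.dvd_prime_pow Nat.prime_two).1 (show Nat.card Y ∣ 2 ^ 9 from B.card_dvd hY)

theorem conj_mem_Fx (B : Base X z φ) {f h a : H} (ha : a ∈ Fx z X f) :
    h * a * h⁻¹ ∈ Fx z X (h * f * h⁻¹) := by
  obtain ⟨haX, haf⟩ := mem_Fx.1 ha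
  refine mem_Fx.2 ⟨B.conj_mem h haX, ?_⟩
  simp only [map_mul, map_inv] at haf ⊢
  calc π h * π f * (π h)⁻¹ * (π h * π a * (π h)⁻¹) * (π h * π f * (π h)⁻¹)⁻¹
      = π h * (π f * π a * (π f)⁻¹) * (π h)⁻¹ := by group
    _ = _ := by rw [haf]

theorem conj_mem_Fx_of_comm (B : Base X z φ) {f h a : H} (hc : Commute (φ h) (φ f))
    (ha : a ∈ Fx z X f) : h * a * h⁻¹ ∈ Fx z X f := by
  have := B.conj_mem_Fx (h := h) ha
  rwa [B.Fx_congr (f' := f) (by rw [map_mul, map_mul, map_inv, hc.eq, mul_inv_cancel_right])] at this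

theorem Fx_inv (_B : Base X z φ) (f : H) : Fx z X f⁻¹ = Fx z X f := by
  ext a
  simp only [mem_Fx]
  refine and_congr_right fun _ => ⟨fun h => ?_, fun h => ?_⟩
  · simp only [map_mul, map_inv, inv_inv] at h ⊢
    conv_lhs => rw [← h]
    group
  · simp only [map_mul, map_inv, inv_inv] at h ⊢
    conv_lhs => rw [← h]
    group

theorem Im_inv_le (B : Base X z φ) (f : H) : B.Im f⁻¹ ≤ B.Im f := fun a ha => by
  obtain ⟨x, hx, e⟩ := B.mem_Im.1 ha
  refine B.mem_Im.2 ⟨(f⁻¹ * x * f)⁻¹, inv_mem (by simpa using B.conj_mem f⁻¹ hx), ?_⟩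
  have h1 : π ⁅f, (f⁻¹ * x * f)⁻¹⁆ = (π ⁅f, f⁻¹ * x * f⁆)⁻¹ :=
    map_inv (B.delta f) ⟨f⁻¹ * x * f, by simpa using B.conj_mem f⁻¹ hx⟩
  rw [h1, ← e, ← map_inv]
  congr 1
  simp only [commutatorElement_def]; group

theorem Im_inv (B : Base X z φ) (f : H) : B.Im f⁻¹ = B.Im f :=
  le_antisymm (B.Im_inv_le f) (by simpa using B.Im_inv_le f⁻¹)

theorem meet (B : Base X z φ) {f a : H} (hf : f ^ 3 ∈ X) (ha : a ∈ Fx z X f) (ha' : a ∈ B.Im f) :
    π a = 1 := by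
  obtain ⟨x, hx, e⟩ := B.mem_Im.1 ha'
  have h := (mem_Fx.1 ha).2
  simp only [map_mul, map_inv, ← e] at h
  have := B.three hf hx (by simpa only [map_mul, map_inv] using h)
  rw [← e, commutatorElement_def, map_mul, this, map_inv, mul_inv_cancel]

/-- Two subgroups of order `32` of `X` meeting in `⟨z⟩` cover `X` modulo `⟨z⟩`. -/
theorem cover32 (B : Base X z φ) {U V : Subgroup H} (hU : U ≤ X) (hV : V ≤ X) (hzU : z ∈ U)
    (hzV : z ∈ V) (h1 : Nat.card U = 32) (h2 : Nat.card V = 32)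
    (hmeet : ∀ a ∈ U, a ∈ V → π a = 1) :
    (∀ x ∈ X, ∃ a ∈ U, ∃ b ∈ V, π x = π a * π b) ∧
      ∀ a ∈ U, ∀ b ∈ V, ∀ a' ∈ U, ∀ b' ∈ V, π a * π b = π a' * π b' → π a = π a' ∧ π b = π b' := by
  have huniq : ∀ a ∈ U, ∀ b ∈ V, ∀ a' ∈ U, ∀ b' ∈ V, π a * π b = π a' * π b' →
      π a = π a' ∧ π b = π b' := by
    intro a ha b hb a' ha' b' hb' e
    have hk : π (a'⁻¹ * a) = π (b' * b⁻¹) := by
      simp only [map_mul, map_inv]
      calc (π a')⁻¹ * π a = (π a')⁻¹ * (π a * π b) * (π b)⁻¹ := by group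
        _ = π b' * (π b)⁻¹ := by rw [e]; group
    have hmem : a'⁻¹ * a ∈ V := by
      rcases B.eq_or_of_pz hk.symm with e2 | e2 <;> rw [e2]
      exacts [mul_mem hb' (inv_mem hb), mul_mem (mul_mem hb' (inv_mem hb)) hzV]
    have h := hmeet _ (mul_mem (inv_mem ha') ha) hmem
    rw [map_mul, map_inv, inv_mul_eq_one] at h
    exact ⟨h.symm, mul_left_cancel (h.symm ▸ e)⟩
  refine ⟨fun x hx => ?_, huniq⟩
  have hcU : Nat.card (U.map π) = 16 := by have := B.card_map hzU; omega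
  have hcV : Nat.card (V.map π) = 16 := by have := B.card_map hzV; omega
  have hcX : Nat.card (X.map π) = 256 := by
    have := B.card_map B.good.x_mem; rw [B.card] at this; omega
  let f : ↥(U.map π) × ↥(V.map π) → ↥(X.map π) := fun p =>
    ⟨p.1.1 * p.2.1, mul_mem (Subgroup.map_mono hU p.1.2) (Subgroup.map_mono hV p.2.2)⟩
  have hinj : Function.Injective f := by
    rintro ⟨⟨_, a, ha, rfl⟩, ⟨_, b, hb, rfl⟩⟩ ⟨⟨_, a', ha', rfl⟩, ⟨_, b', hb', rfl⟩⟩ e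
    obtain ⟨h1, h2⟩ := huniq a ha b hb a' ha' b' hb' (congrArg Subtype.val e)
    exact Prod.ext (Subtype.ext h1) (Subtype.ext h2)
  obtain ⟨⟨⟨_, a, ha, rfl⟩, ⟨_, b, hb, rfl⟩⟩, e⟩ := (hinj.bijective_of_nat_card_le (by
    rw [Nat.card_prod, hcU, hcV, hcX])).2 ⟨π x, Subgroup.mem_map_of_mem _ hx⟩
  exact ⟨a, ha, b, hb, (congrArg Subtype.val e).symm⟩

/-- An element of order `3` modulo `X` fixing only `⟨z⟩` in `Y` forces `|Y/⟨z⟩| ≡ 1 (mod 3)`. -/
theorem card_map_mod_three (B : Base X z φ) {Y : Subgroup H} (hY : Y ≤ X) {f : H} (hf : f ^ 3 ∈ X)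
    (hn : ∀ a ∈ Y, f * a * f⁻¹ ∈ Y) (hfix : ∀ a ∈ Y, π (f * a * f⁻¹) = π a → π a = 1) :
    Nat.card (Y.map π) % 3 = 1 := by
  have hmem : ∀ w : ↥(Y.map π), π f * w.1 * (π f)⁻¹ ∈ Y.map π := by
    rintro ⟨_, a, ha, rfl⟩
    exact ⟨f * a * f⁻¹, hn a ha, by simp only [map_mul, map_inv]⟩
  let σ : ↥(Y.map π) → ↥(Y.map π) := fun w => ⟨π f * w.1 * (π f)⁻¹, hmem w⟩
  have h3 : ∀ w, σ (σ (σ w)) = w := by
    rintro ⟨_, a, ha, rfl⟩
    refine Subtype.ext ?_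
    show π f * (π f * (π f * π a * (π f)⁻¹) * (π f)⁻¹) * (π f)⁻¹ = π a
    calc _ = π (f ^ 3) * π a * (π (f ^ 3))⁻¹ := by
          rw [map_pow]; simp only [pow_succ, pow_zero, one_mul]; group
      _ = π a := by rw [(B.pz_comm hf (hY ha)).eq, mul_inv_cancel_right]
  let e : Equiv.Perm ↥(Y.map π) :=
    ⟨σ, fun w => σ (σ w), h3, fun w => h3 w⟩
  haveI : Fact (Nat.Prime 3) := ⟨by norm_num⟩
  have he3 : e ^ 3 = 1 := Equiv.ext fun w => by
    simp only [pow_succ, pow_zero, one_mul, Perm.mul_apply, Perm.one_apply]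
    exact h3 w
  have hp : IsPGroup 3 (Subgroup.zpowers e) := by
    intro x
    refine ⟨1, Subtype.ext ?_⟩
    obtain ⟨i, hi⟩ := Subgroup.mem_zpowers_iff.1 x.2
    rw [pow_one, SubmonoidClass.coe_pow, ← hi, ← zpow_natCast, ← zpow_mul, mul_comm, zpow_mul,
      zpow_natCast, he3, one_zpow, Subgroup.coe_one]
  have hset : MulAction.fixedPoints (Subgroup.zpowers e) ↥(Y.map π) = {1} := by
    ext w
    refine ⟨fun h => ?_, fun h x => ?_⟩
    · obtain ⟨_, a, ha, rfl⟩ := w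
      have h1 : π f * π a * (π f)⁻¹ = π a := congrArg Subtype.val (h ⟨e, Subgroup.mem_zpowers e⟩)
      exact Subtype.ext (hfix a ha (by simpa only [map_mul, map_inv] using h1))
    · obtain rfl : w = 1 := h
      have hle : Subgroup.zpowers e ≤ MulAction.stabilizer (Equiv.Perm ↥(Y.map π)) (1 : ↥(Y.map π)) :=
        Subgroup.zpowers_le.2 (Subtype.ext (by
          show π f * 1 * (π f)⁻¹ = 1
          group))
      exact hle x.2
  have hmod := hp.card_modEq_card_fixedPoints (α := ↥(Y.map π))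
  rw [hset] at hmod
  simpa [Nat.ModEq] using hmod

end Base

end Cfsg.Agent.Lib.LargeNine45
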