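import Cfsg.Agent.Lib.LargeNine45.Even.Std

/-!
Every coset of the standard normaliser occurs, and every group is standard (helper45).
-/

set_option autoImplicit false

namespace Cfsg.Agent.Lib.LargeNine45.Even

open Equiv

set_option synthInstance.maxSize 2000

theorem stdI_cover : stdI.Cover := by unfold Std.Cover; decide +kernel

end Cfsg.Agent.Lib.LargeNine45.Even
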