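import Cfsg.Agent.Lib.LargeNine45.Perm3

/-!
Standard forms of the image of `S v` for the centraliser `2^(1+8).(3 × A₆).2`, and coset
representatives of the normaliser in `A₆`, indexed by duads (helper45).
-/

set_option autoImplicit false

namespace Cfsg.Agent.Lib.LargeNine45.Even

open Equiv

/-- Standard permutations. -/
structure Std where
  d : P6
  d' : P6
  a : P6
  b : P6
  t : P6
  g : P6
  qs : List P6
  rs : List P6
  σd : P6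
  σd' : P6

/-- The position of a duad. -/
def duadIdx (i j : Fin 6) : ℕ :=
  (([[0, 0, 1, 2, 3, 4], [0, 0, 5, 6, 7, 8], [1, 5, 0, 9, 10, 11], [2, 6, 9, 0, 12, 13], [3, 7, 10, 12, 0, 14], [4, 8, 11, 13, 14, 0]] : List (List ℕ))[(i : ℕ)]?.getD [])[(j : ℕ)]?.getD 0

namespace Std

/-- The representative of a duad. -/
def q (D : Std) (i j : Fin 6) : P6 := D.qs.getD (duadIdx i j) 1

/-- The non-trivial elements of the four-group. -/
def F (D : Std) : List P6 := [D.a, D.b, D.a * D.b]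

/-- The odd elements. -/
def O (D : Std) : List P6 := [D.t, D.t * D.a, D.t * D.b, D.t * (D.a * D.b)]

/-- The normaliser of the standard group in `A₆`. -/
def InN (D : Std) (x : P6) : Prop :=
  Perm.sign x = 1 ∧ x * D.a * x⁻¹ ∈ D.F ∧ x * D.b * x⁻¹ ∈ D.F ∧ x * D.t * x⁻¹ ∈ D.O

instance instDecidableInN (D : Std) (x : P6) : Decidable (D.InN x) :=
  inferInstanceAs (Decidable (_ ∧ _ ∧ _ ∧ _))

/-- The elementary properties. -/
structure Basic (D : Std) : Prop where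
  sd : Perm.sign D.d = 1
  sd' : Perm.sign D.d' = 1
  sa : Perm.sign D.a = 1
  sb : Perm.sign D.b = 1
  sg : Perm.sign D.g = 1
  st : Perm.sign D.t = -1
  d3 : D.d ^ 3 = 1
  d1 : D.d ≠ 1
  a1 : D.a ≠ 1
  b1 : D.b ≠ 1
  ab : D.a ≠ D.b
  a2 : D.a * D.a = 1
  b2 : D.b * D.b = 1
  cab : D.a * D.b = D.b * D.a
  cdd : D.d * D.d' = D.d' * D.d
  da : D.d * D.a * D.d⁻¹ = D.b
  db : D.d * D.b * D.d⁻¹ = D.a * D.b
  dt : D.d * D.t * D.d⁻¹ = D.t
  gd : D.g * D.d * D.g⁻¹ = D.d'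
  gd' : D.g * D.d' * D.g⁻¹ = D.d⁻¹
  move1 : D.d' * D.a * D.d'⁻¹ ∉ D.F ∨ D.d' * D.b * D.d'⁻¹ ∉ D.F
  move2 : D.d' ^ 2 * D.a * (D.d' ^ 2)⁻¹ ∉ D.F ∨ D.d' ^ 2 * D.b * (D.d' ^ 2)⁻¹ ∉ D.F
  q_base : D.q 0 1 = 1
  q_even : ∀ i j, Perm.sign (D.q i j) = 1
  q_symm : ∀ i j, D.q i j = D.q j i

/-- The triangles are orbits of `d'`. -/
def Triangles (D : Std) : Prop :=
  ∀ i j : Fin 6, 0 < i → i < j → ∃ r ∈ D.rs, Perm.sign r = 1 ∧ D.InN ((D.q 0 i)⁻¹ * r) ∧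
    ((D.InN ((D.q 0 j)⁻¹ * (r * D.d')) ∧ D.InN ((D.q i j)⁻¹ * (r * D.d' ^ 2))) ∨
      (D.InN ((D.q i j)⁻¹ * (r * D.d')) ∧ D.InN ((D.q 0 j)⁻¹ * (r * D.d' ^ 2))))

/-- The permutation `x` sends the matching `{01,23,45}` to the one given by `σ`. -/
def Matching (D : Std) (x σ : P6) : Prop :=
  D.InN ((D.q (σ 0) (σ 1))⁻¹ * (x * D.q 0 1)) ∧ D.InN ((D.q (σ 2) (σ 3))⁻¹ * (x * D.q 2 3)) ∧
    D.InN ((D.q (σ 4) (σ 5))⁻¹ * (x * D.q 4 5))

/-- Every coset occurs. -/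
def Cover (D : Std) : Prop :=
  ∀ x : P6, Perm.sign x = 1 → ∃ i j : Fin 6, i < j ∧ D.InN ((D.q i j)⁻¹ * x)

end Std

/-- Standard data, type I. -/
def stdI : Std where
  d := swap 0 1 * swap 1 2 * swap 3 4 * swap 4 5
  d' := swap 0 2 * swap 2 1 * swap 3 4 * swap 4 5
  a := swap 1 3 * swap 2 4
  b := swap 0 5 * swap 2 4
  t := swap 0 5 * swap 1 3 * swap 2 4
  g := swap 0 3 * swap 1 4 * swap 4 2 * swap 2 5
  qs := [1,
    swap 3 4 * swap 4 5,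
    swap 2 3 * swap 4 5,
    swap 2 3 * swap 3 5,
    swap 1 2 * swap 2 5,
    swap 3 5 * swap 5 4,
    swap 1 2 * swap 2 4 * swap 4 3 * swap 3 5,
    swap 2 5 * swap 5 3,
    swap 2 5 * swap 3 4,
    swap 2 4 * swap 4 5,
    swap 1 2 * swap 2 3 * swap 3 4 * swap 4 5,
    swap 2 4 * swap 4 3,
    swap 2 3 * swap 3 4,
    swap 2 4 * swap 3 5,
    swap 2 5 * swap 5 4]
  rs := [1,
    swap 0 1 * swap 1 4 * swap 2 5 * swap 5 3,
    swap 0 2 * swap 2 5 * swap 5 4 * swap 1 3,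
    swap 1 3 * swap 2 4,
    swap 0 2 * swap 2 4 * swap 4 1 * swap 1 3,
    swap 1 4 * swap 4 2 * swap 2 5 * swap 5 3,
    swap 0 1 * swap 1 3 * swap 2 5 * swap 5 4,
    swap 2 3 * swap 4 5,
    swap 1 2 * swap 2 5 * swap 5 4 * swap 4 3,
    swap 0 1 * swap 1 2 * swap 2 4 * swap 4 3]
  σd := swap 3 4
  σd' := swap 0 1 * swap 1 2

/-- Standard data, type II. -/
def stdII : Std where
  d := swap 0 1 * swap 1 2
  d' := swap 3 4 * swap 4 5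
  a := swap 0 1 * swap 2 3
  b := swap 0 3 * swap 1 2
  t := swap 4 5
  g := swap 0 3 * swap 1 4 * swap 4 2 * swap 2 5
  qs := [1,
    swap 3 4 * swap 4 5,
    swap 2 3 * swap 3 4,
    swap 1 2 * swap 2 3 * swap 3 4 * swap 4 5,
    swap 0 1 * swap 1 2 * swap 2 3 * swap 3 4,
    swap 3 5 * swap 5 4,
    swap 2 3 * swap 3 5,
    swap 1 2 * swap 2 3 * swap 3 5 * swap 5 4,
    swap 0 1 * swap 1 2 * swap 2 3 * swap 3 5,
    swap 2 4 * swap 3 5,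
    swap 1 2 * swap 2 4 * swap 4 3 * swap 3 5,
    swap 0 1 * swap 1 2 * swap 2 4 * swap 3 5,
    swap 1 3 * swap 3 5 * swap 5 2 * swap 2 4,
    swap 0 1 * swap 1 3 * swap 3 5 * swap 2 4,
    swap 0 2 * swap 2 4 * swap 1 3 * swap 3 5]
  rs := [1,
    swap 2 3 * swap 4 5,
    swap 1 2 * swap 2 3,
    swap 0 1 * swap 1 2 * swap 2 3 * swap 4 5,
    swap 2 4 * swap 4 3,
    swap 1 2 * swap 2 4 * swap 4 5 * swap 5 3,
    swap 0 1 * swap 1 2 * swap 2 4 * swap 4 3,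
    swap 1 3 * swap 2 4,
    swap 0 1 * swap 1 3 * swap 2 4 * swap 4 5,
    swap 0 2 * swap 2 4 * swap 4 1 * swap 1 3]
  σd := swap 3 5 * swap 5 4
  σd' := swap 1 2

/-- Conjugation by `x` sends the group of `(a, b, t)` to the standard one. -/
def SendsTo (D : Std) (x a b t : P6) : Prop :=
  x * a * x⁻¹ ∈ D.F ∧ x * b * x⁻¹ ∈ D.F ∧ x * t * x⁻¹ ∈ D.O

instance instDecidableSendsTo (D : Std) (x a b t : P6) : Decidable (SendsTo D x a b t) :=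
  inferInstanceAs (Decidable (_ ∧ _ ∧ _))

end Cfsg.Agent.Lib.LargeNine45.Even
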