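import Cfsg.Agent.Lib.LargeNine45.Even.Count
import Cfsg.Agent.Lib.LargeNine45.Even.Std

/-!
In a centraliser `2^(1+8).(3 × A₆).2` the fixed points of an element `e` of order `3` centralising a
conjugate `v` have order `2⁵` and `3² ⊂ A₆` has no fixed points modulo `⟨z⟩` (helper45).
-/

set_option autoImplicit false

namespace Cfsg.Agent.Lib.LargeNine45.Even

open Equiv LargeExtra
open scoped commutatorElement

variable {H : Type*} [Group H] [Finite H] {X : Subgroup H} {z : H} {φ : H →* T}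
variable [(Subgroup.zpowers z).Normal]

local notation "π" => pz z

/-- A conjugate in standard position, with `e`, a lift `G0` of `g` and a lift `c` of a three-cycle. -/
structure EvenCtx (X : Subgroup H) (z : H) (φ : H →* T) (C : H → Prop) (S : H → Subgroup H) (v : H)
    (s : P3) (D : Std) (e G0 c : H) [(Subgroup.zpowers z).Normal] : Prop where
  base : Base X z φ
  fam : Fam X z C S
  hv : C v
  hax : IsAxis φ S v s
  ok : D.Basic
  rng : ∀ h, Perm.sign (φ h).1 = Perm.sign (φ h).2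
  mem_a : ((1, D.a) : T) ∈ (S v).map φ
  mem_b : ((1, D.b) : T) ∈ (S v).map φ
  mem_t : ((s, D.t) : T) ∈ (S v).map φ
  he : φ e = (1, D.d)
  he3 : e ^ 3 = 1
  hev : Commute e v
  hG : φ G0 = (1, D.g)
  hc : ∃ p, φ c = (p, 1) ∧ p ^ 3 = 1 ∧ p ≠ 1

theorem card_img_eight {C : H → Prop} {S : H → Subgroup H} {v : H} {s : P3} (F : Fam X z C S)
    (B : Base X z φ) (hv : C v) (hax : IsAxis φ S v s)
    (hr : ∀ h, Perm.sign (φ h).1 = Perm.sign (φ h).2) :
    Nat.card ((S v).map φ) = 8 := by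
  refine le_antisymm (le_trans (Nat.card_le_card_of_injective
    (fun r : ↥((S v).map φ) => (⟨_, Subgroup.mem_map_of_mem (MonoidHom.snd P3 P6) r.2⟩ :
      ↥(((S v).map φ).map (MonoidHom.snd P3 P6)))) ?_) (F.card_snd_le B hv)) (F.eight_le_img B hv)
  intro a b e
  have e2 : a.1.2 = b.1.2 := congrArg Subtype.val e
  refine Subtype.ext (Prod.ext ?_ e2)
  have hab : (a : T) * (b : T)⁻¹ ∈ (S v).map φ := mul_mem a.2 (inv_mem b.2)
  obtain ⟨h, -, hh⟩ := hab
  have hsg := hr h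
  rw [hh] at hsg
  rcases hax.2.2.1 _ (mul_mem a.2 (inv_mem b.2)) with e1 | e1
  · exact mul_inv_eq_one.1 e1
  · simp only [Prod.fst_mul, Prod.fst_inv, Prod.snd_mul, Prod.snd_inv, e2, mul_inv_cancel, map_one] at hsg e1
    rw [e1, sign_invol_three s hax.1 hax.2.1] at hsg
    exact absurd hsg (by decide)

variable {C : H → Prop} {S : H → Subgroup H} {v : H} {s : P3} {D : Std} {e G0 c : H}

namespace EvenCtx

theorem pair (K : EvenCtx X z φ C S v s D e G0 c) : Pair X z v (S v) := K.fam.pair v K.hv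

theorem card_R (K : EvenCtx X z φ C S v s D e G0 c) : Nat.card ((S v).map φ) = 8 :=
  card_img_eight K.fam K.base K.hv K.hax K.rng

theorem card_I (K : EvenCtx X z φ C S v s D e G0 c) : Nat.card ↥(X ⊓ S v) = 32 := by
  have := K.pair.card_img K.base; rw [K.card_R] at this; omega

theorem img_cases (K : EvenCtx X z φ C S v s D e G0 c) {r : T} (hr : r ∈ (S v).map φ) :
    (r.1 = 1 ∧ (r.2 = 1 ∨ r.2 ∈ D.F)) ∨ (r.1 = s ∧ r.2 ∈ D.O) := by
  let F0 : Subgroup P6 := (((S v).map φ) ⊓ (MonoidHom.fst P3 P6).ker).map (MonoidHom.snd P3 P6)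
  have hev : ∀ f ∈ F0, Perm.sign f = 1 := by
    rintro _ ⟨r, ⟨⟨h, -, rfl⟩, h1⟩, rfl⟩
    show Perm.sign (φ h).2 = 1
    rw [← K.rng h, show (φ h).1 = 1 from h1, map_one]
  have h4 : Nat.card F0 ≤ 4 := card_le_four F0 hev
    (by rintro _ ⟨r, ⟨hr, -⟩, rfl⟩; rw [← map_mul, K.pair.img_sq K.base hr, map_one])
    (by rintro _ ⟨r, ⟨hr, -⟩, rfl⟩ _ ⟨r', ⟨hr', -⟩, rfl⟩
        rw [← map_mul, ← map_mul, (K.pair.img_comm K.base hr hr').eq])
  have ha : D.a ∈ F0 := ⟨(1, D.a), ⟨K.mem_a, rfl⟩, rfl⟩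
  have hb : D.b ∈ F0 := ⟨(1, D.b), ⟨K.mem_b, rfl⟩, rfl⟩
  have hset : ({1, D.a, D.b, D.a * D.b} : Set P6) = (F0 : Set P6) := by
    refine Set.eq_of_subset_of_ncard_le ?_ ?_ (Set.toFinite _)
    · rintro x (rfl | rfl | rfl | rfl)
      exacts [one_mem F0, ha, hb, mul_mem ha hb]
    · have hcard : ({1, D.a, D.b, D.a * D.b} : Set P6).ncard = 4 := by
        have n1 : D.a * D.b ≠ 1 := fun h => K.ok.ab (by
          rw [← inv_eq_of_mul_eq_one_right h, inv_eq_of_mul_eq_one_right K.ok.a2])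
        have n2 : D.a * D.b ≠ D.a := fun h => K.ok.b1 (mul_eq_left.1 h)
        have n3 : D.a * D.b ≠ D.b := fun h => K.ok.a1 (mul_eq_right.1 h)
        rw [Set.ncard_insert_of_notMem (by simp [K.ok.a1.symm, K.ok.b1.symm, n1.symm]) (Set.toFinite _),
          Set.ncard_insert_of_notMem (by simp [K.ok.ab, n2.symm]) (Set.toFinite _),
          Set.ncard_pair n3.symm]
      rw [hcard]
      exact le_of_eq_of_le (Nat.card_coe_set_eq _).symm h4
  rcases K.hax.2.2.1 r hr with h1 | h1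
  · have hmem : r.2 ∈ (F0 : Set P6) := ⟨r, ⟨hr, h1⟩, rfl⟩
    rw [← hset] at hmem
    refine Or.inl ⟨h1, ?_⟩
    simpa [Std.F] using hmem
  · have hrt := mul_mem K.mem_t hr
    have hmem : D.t * r.2 ∈ (F0 : Set P6) :=
      ⟨_, ⟨hrt, by show s * r.1 = 1; rw [h1, K.hax.1]⟩, rfl⟩
    rw [← hset] at hmem
    have ht2 : D.t * D.t = 1 := congrArg Prod.snd (K.pair.img_sq K.base K.mem_t)
    have hr2 : r.2 = D.t * (D.t * r.2) := by rw [← mul_assoc, ht2, one_mul]
    refine Or.inr ⟨h1, ?_⟩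
    rw [hr2]
    rcases hmem with h | h | h | h <;> rw [h] <;> simp [Std.O]

theorem mem_F (K : EvenCtx X z φ C S v s D e G0 c) {x : P6} (hx : x ∈ D.F) :
    ((1, x) : T) ∈ (S v).map φ := by
  simp only [Std.F, List.mem_cons, List.not_mem_nil, or_false] at hx
  rcases hx with rfl | rfl | rfl
  · exact K.mem_a
  · exact K.mem_b
  · simpa using mul_mem K.mem_a K.mem_b

theorem mem_O (K : EvenCtx X z φ C S v s D e G0 c) {x : P6} (hx : x ∈ D.O) :
    ((s, x) : T) ∈ (S v).map φ := by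
  simp only [Std.O, List.mem_cons, List.not_mem_nil, or_false] at hx
  rcases hx with rfl | rfl | rfl | rfl
  · exact K.mem_t
  · simpa using mul_mem K.mem_t K.mem_a
  · simpa using mul_mem K.mem_t K.mem_b
  · simpa using mul_mem K.mem_t (mul_mem K.mem_a K.mem_b)

/-- Lifts of the standard normaliser fix `v`. -/
theorem fix_of_InN (K : EvenCtx X z φ C S v s D e G0 c) {h : H} {x : P6} (hh : φ h = (1, x))
    (hx : D.InN x) : π (h * v * h⁻¹) = π v := by
  refine (shared K.base K.pair (K.fam.pair _ (K.fam.conj h v K.hv)) ?_ K.card_I).symm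
  refine (Subgroup.eq_of_le_of_card_ge ?_ ?_).symm
  · intro r hr
    obtain ⟨t, ht, rfl⟩ := hr
    have ht' := K.fam.equiv h⁻¹ _ (K.fam.conj h v K.hv) t ht
    rw [show h⁻¹ * (h * v * h⁻¹) * h⁻¹⁻¹ = v by group] at ht'
    have hmem : φ h * φ (h⁻¹ * t * h⁻¹⁻¹) * (φ h)⁻¹ ∈ (S v).map φ := by
      have hr0 := Subgroup.mem_map_of_mem φ ht'
      set r := φ (h⁻¹ * t * h⁻¹⁻¹) with hr
      clear_value r
      have hga : φ h * (1, D.a) * (φ h)⁻¹ ∈ (S v).map φ := by
        rw [hh]; simpa using K.mem_F hx.2.1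
      have hgb : φ h * (1, D.b) * (φ h)⁻¹ ∈ (S v).map φ := by
        rw [hh]; simpa using K.mem_F hx.2.2.1
      have hgt : φ h * (s, D.t) * (φ h)⁻¹ ∈ (S v).map φ := by
        rw [hh]; simpa using K.mem_O hx.2.2.2
      have hcases := K.img_cases hr0
      obtain ⟨r1, r2⟩ := r
      dsimp only at hcases
      rcases hcases with ⟨rfl, h2⟩ | ⟨rfl, h2⟩
      · rcases h2 with rfl | h2
        · rw [show ((1, 1) : T) = 1 from rfl, mul_one, mul_inv_cancel]; exact one_mem _
        simp only [Std.F, List.mem_cons, List.not_mem_nil, or_false] at h2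
        rcases h2 with rfl | rfl | rfl
        · exact hga
        · exact hgb
        · convert mul_mem hga hgb using 1
          rw [show ((1, D.a * D.b) : T) = (1, D.a) * (1, D.b) by simp]; group
      · simp only [Std.O, List.mem_cons, List.not_mem_nil, or_false] at h2
        rcases h2 with rfl | rfl | rfl | rfl
        · exact hgt
        · convert mul_mem hgt hga using 1
          rw [show ((r1, D.t * D.a) : T) = (r1, D.t) * (1, D.a) by simp]; group
        · convert mul_mem hgt hgb using 1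
          rw [show ((r1, D.t * D.b) : T) = (r1, D.t) * (1, D.b) by simp]; group
        · convert mul_mem hgt (mul_mem hga hgb) using 1
          rw [show ((r1, D.t * (D.a * D.b)) : T) = (r1, D.t) * ((1, D.a) * (1, D.b)) by simp]; group
    convert hmem using 1
    simp only [map_mul, map_inv]; group
  · rw [card_img_eight K.fam K.base K.hv K.hax K.rng]
    have P' := K.fam.pair _ (K.fam.conj h v K.hv)
    obtain ⟨s', hs'⟩ := K.fam.exists_axis K.base (K.fam.conj h v K.hv)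
    rw [card_img_eight K.fam K.base (K.fam.conj h v K.hv) hs' K.rng]

theorem e_X (K : EvenCtx X z φ C S v s D e G0 c) : e ^ 3 ∈ X := by rw [K.he3]; exact one_mem X

theorem e_fix (K : EvenCtx X z φ C S v s D e G0 c) : π (e * v * e⁻¹) = π v := by
  rw [conj_eq_iff_comm.2 K.hev.eq]

theorem e_norm_I (K : EvenCtx X z φ C S v s D e G0 c) {i : H} (hi : i ∈ X ⊓ S v) :
    e * i * e⁻¹ ∈ X ⊓ S v := ⟨K.base.conj_mem e hi.1, K.pair.norm e K.hev i hi.2⟩

theorem comm_congr (K : EvenCtx X z φ C S v s D e G0 c) {a b i : H} (ha : a ∈ S v) (hb : b ∈ S v)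
    (h : φ a = φ b) (hi : i ∈ X ⊓ S v) : Commute a i ↔ Commute b i := by
  have hj : Commute (a⁻¹ * b) i :=
    K.pair.comm_I K.base (Subgroup.mem_inf.2 ⟨K.base.div_mem h, mul_mem (inv_mem ha) hb⟩) hi
  constructor <;> intro hh
  · have := hh.mul_left hj; rwa [mul_inv_cancel_left] at this
  · have h2 := hh.mul_left hj.inv_left
    rwa [show b * (a⁻¹ * b)⁻¹ = a by group] at h2

/-- The fixed points of `e` on `X ∩ S`. -/
theorem card_fixI (K : EvenCtx X z φ C S v s D e G0 c) :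
    Nat.card ↥(Fx z X e ⊓ (X ⊓ S v)) ≤ 8 := by
  obtain ⟨ft, hft, hφt⟩ := K.mem_t
  obtain ⟨fa, hfa, hφa⟩ := K.mem_a
  have hfb : e * fa * e⁻¹ ∈ S v := K.pair.norm e K.hev fa hfa
  have hφb : φ (e * fa * e⁻¹) = (1, D.b) := by
    rw [map_mul, map_mul, map_inv, hφa, K.he]; exact Prod.ext (by simp) K.ok.da
  have hfc : e * (e * fa * e⁻¹) * e⁻¹ ∈ S v := K.pair.norm e K.hev _ hfb
  have hφc : φ (e * (e * fa * e⁻¹) * e⁻¹) = (1, D.a * D.b) := by
    rw [map_mul, map_mul, map_inv, hφb, K.he]; exact Prod.ext (by simp) K.ok.db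
  have hsame : ∀ i ∈ Fx z X e, ∀ f : H, (Commute f i ↔ Commute (e * f * e⁻¹) i) := by
    intro i hi f
    rw [← Commute.conj_iff e (a := f) (b := i)]
    exact ⟨fun h => ((K.base.commute_congr (mem_Fx.1 hi).2).1 h.symm).symm,
      fun h => ((K.base.commute_congr (mem_Fx.1 hi).2).2 h.symm).symm⟩
  have hR0 : ∀ i ∈ Fx z X e ⊓ (X ⊓ S v), Commute fa i ∧ Commute (e * fa * e⁻¹) i := by
    intro i hi
    have h1 := hsame i hi.1 fa
    have h2 := hsame i hi.1 (e * fa * e⁻¹)
    have hprod : Commute (e * (e * fa * e⁻¹) * e⁻¹) i := by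
      refine (K.comm_congr (mul_mem (inv_mem hfa) hfb) hfc ?_ hi.2).1 ?_
      · rw [map_mul, map_inv, hφa, hφb, hφc]
        exact Prod.ext (by simp) (by simp [inv_eq_of_mul_eq_one_right K.ok.a2])
      by_cases hc : Commute fa i
      · exact hc.inv_left.mul_left (h1.1 hc)
      · refine conj_eq_iff_comm.1 ?_
        have c1 := (K.pair.comm fa hfa i hi.2.2).resolve_left fun h => hc (conj_eq_iff_comm.1 h)
        have c2 := (K.pair.comm _ hfb i hi.2.2).resolve_left fun h => hc (h1.2 (conj_eq_iff_comm.1 h))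
        calc fa⁻¹ * (e * fa * e⁻¹) * i * (fa⁻¹ * (e * fa * e⁻¹))⁻¹
            = fa⁻¹ * ((e * fa * e⁻¹) * i * (e * fa * e⁻¹)⁻¹) * fa := by group
          _ = i := by rw [c2, ← c1]; group
    exact ⟨h1.2 (h2.2 hprod), h2.2 hprod⟩
  let M := Fx z X e ⊓ (X ⊓ S v)
  let P := M ⊓ Subgroup.centralizer {ft}
  have hP4 : Nat.card P ≤ 4 := by
    have hzP : z ∈ P := ⟨⟨K.base.z_mem_Fx e, K.pair.z_mem_I K.base⟩,
      Subgroup.mem_centralizer_singleton_iff.2 (K.base.zc ft).eq.symm⟩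
    have hsub : ((P.map π : Subgroup _) : Set (H ⧸ Subgroup.zpowers z)) ⊆ {1, π v} := by
      rintro _ ⟨i, ⟨hiM, hit⟩, rfl⟩
      have hit' : Commute ft i := (Subgroup.mem_centralizer_singleton_iff.1 hit).symm
      refine K.pair.centre_cases K.base hiM.2.2 fun f hf => ?_
      have hI : ∀ j ∈ X ⊓ S v, Commute j i := fun j hj => K.pair.comm_I K.base hj hiM.2
      obtain ⟨ha1, hb1⟩ := hR0 i hiM
      have key : ∀ f0 ∈ S v, φ f0 = φ f → Commute f0 i → Commute i f := fun f0 hf0 e0 h0 =>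
        ((K.comm_congr hf0 hf e0 hiM.2).1 h0).symm
      have hcases := K.img_cases (Subgroup.mem_map_of_mem φ hf)
      rcases hcases with ⟨h1, h2⟩ | ⟨h1, h2⟩
      · rcases h2 with h2 | h2
        · exact key 1 (one_mem _) (by rw [map_one]; exact (Prod.ext h1 h2).symm) (Commute.one_left i)
        simp only [Std.F, List.mem_cons, List.not_mem_nil, or_false] at h2
        rcases h2 with h2 | h2 | h2
        · exact key fa hfa (hφa.trans (Prod.ext h1 h2).symm) ha1
        · exact key _ hfb (hφb.trans (Prod.ext h1 h2).symm) hb1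
        · exact key _ (mul_mem hfa hfb) (by rw [map_mul, hφa, hφb]; exact Prod.ext (by simp [h1]) h2.symm)
            (ha1.mul_left hb1)
      · simp only [Std.O, List.mem_cons, List.not_mem_nil, or_false] at h2
        rcases h2 with h2 | h2 | h2 | h2
        · exact key ft hft (hφt.trans (Prod.ext h1 h2).symm) hit'
        · exact key _ (mul_mem hft hfa) (by rw [map_mul, hφt, hφa]; exact Prod.ext (by simp [h1]) h2.symm)
            (hit'.mul_left ha1)
        · exact key _ (mul_mem hft hfb) (by rw [map_mul, hφt, hφb]; exact Prod.ext (by simp [h1]) h2.symm)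
            (hit'.mul_left hb1)
        · exact key _ (mul_mem hft (mul_mem hfa hfb))
            (by rw [map_mul, map_mul, hφt, hφa, hφb]; exact Prod.ext (by simp [h1]) h2.symm)
            (hit'.mul_left (ha1.mul_left hb1))
    have h1 := (Set.ncard_le_ncard hsub (Set.toFinite _)).trans
      ((Set.ncard_insert_le _ _).trans (by rw [Set.ncard_singleton]))
    rw [← Nat.card_coe_set_eq] at h1
    have h1' : Nat.card ↥(P.map π) ≤ 1 + 1 := h1
    have := K.base.card_map hzP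
    omega
  show Nat.card ↥M ≤ 8
  have hle := card_le_two_mul (M := M) (P := P) inf_le_left fun x hx hxP y hy hyP => by
    refine Subgroup.mem_inf.2 ⟨mul_mem (inv_mem hx) hy, Subgroup.mem_centralizer_singleton_iff.2 ?_⟩
    have nx : ¬ Commute ft x := fun h => hxP ⟨hx, Subgroup.mem_centralizer_singleton_iff.2 h.eq.symm⟩
    have ny : ¬ Commute ft y := fun h => hyP ⟨hy, Subgroup.mem_centralizer_singleton_iff.2 h.eq.symm⟩
    have c1 := (K.pair.comm ft hft x hx.2.2).resolve_left fun h => nx (conj_eq_iff_comm.1 h)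
    have c2 := (K.pair.comm ft hft y hy.2.2).resolve_left fun h => ny (conj_eq_iff_comm.1 h)
    refine (conj_eq_iff_comm.1 ?_).symm
    calc ft * (x⁻¹ * y) * ft⁻¹ = (ft * x * ft⁻¹)⁻¹ * (ft * y * ft⁻¹) := by group
      _ = v⁻¹ * (x⁻¹ * y) * v := by rw [c1, c2]; group
      _ = x⁻¹ * y := by
          rw [mul_assoc, (K.pair.cv _ (mul_mem (inv_mem hx.2.2) hy.2.2)).eq]; group
  omega

/-- `|Fx e| ≤ 32`. -/
theorem card_Fx_le (K : EvenCtx X z φ C S v s D e G0 c) : Nat.card ↥(Fx z X e) ≤ 32 := by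
  -- a moved element of `X ∩ S`
  obtain ⟨l0, hl0, hne⟩ : ∃ l ∈ X ⊓ S v, π (e * l * e⁻¹) ≠ π l := by
    by_contra hall
    push Not at hall
    have := Subgroup.card_le_of_le (show X ⊓ S v ≤ Fx z X e ⊓ (X ⊓ S v) from fun i hi =>
      ⟨mem_Fx.2 ⟨hi.1, hall i hi⟩, hi⟩)
    have h8 := K.card_fixI
    rw [K.card_I] at this
    omega
  let W : Subgroup H := Subgroup.closure ({z, v} ∪ {w | ∃ i ∈ X ⊓ S v, w = ⁅e, i⁆})
  have hWle : W ≤ X ⊓ S v := (Subgroup.closure_le _).2 (by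
    rintro w ((rfl | rfl) | ⟨i, hi, rfl⟩)
    · exact K.pair.z_mem_I K.base
    · exact ⟨K.pair.vX, K.pair.vS⟩
    · exact mul_mem (K.e_norm_I hi) (inv_mem (show i ∈ X ⊓ S v from hi)))
  have hzW : z ∈ W := Subgroup.subset_closure (Or.inl (Or.inl rfl))
  have hvW : v ∈ W := Subgroup.subset_closure (Or.inl (Or.inr rfl))
  have hW16 : 16 ≤ Nat.card W := by
    have hu1 : ⁅e, l0⁆ ∈ W := Subgroup.subset_closure (Or.inr ⟨l0, hl0, rfl⟩)
    have hu2 : ⁅e, e * l0 * e⁻¹⁆ ∈ W := Subgroup.subset_closure (Or.inr ⟨_, K.e_norm_I hl0, rfl⟩)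
    have hev : π e * π v * (π e)⁻¹ = π v := by rw [← map_inv, ← map_mul, ← map_mul, K.e_fix]
    have hconj : π ⁅e, e * l0 * e⁻¹⁆ = π e * π ⁅e, l0⁆ * (π e)⁻¹ := by
      rw [← map_inv, ← map_mul, ← map_mul]; congr 1; simp only [commutatorElement_def]; group
    have n1 : π ⁅e, l0⁆ ≠ 1 := fun h => hne (by
      rwa [commutatorElement_def, map_mul, map_inv, mul_inv_eq_one] at h)
    have n2 : π ⁅e, l0⁆ ≠ π v := fun h => hne (K.base.three K.e_X hl0.1 (by
      simp only [map_mul, map_inv]; rw [h, hev]))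
    have n3 : π e * π ⁅e, l0⁆ * (π e)⁻¹ ≠ π ⁅e, l0⁆ := fun h => hne (K.base.three K.e_X hl0.1 (by
      simp only [map_mul, map_inv]; exact h))
    have b1 : π ⁅e, e * l0 * e⁻¹⁆ ≠ 1 := fun h => n1 (by
      rw [hconj] at h; exact mul_eq_left.1 (mul_inv_eq_one.1 h))
    have b2 : π ⁅e, e * l0 * e⁻¹⁆ ≠ π v := fun h => n2 (by
      rw [hconj, ← hev] at h; exact mul_left_cancel (mul_right_cancel h))
    have b3 : π ⁅e, e * l0 * e⁻¹⁆ ≠ π ⁅e, l0⁆ := fun h => n3 (hconj ▸ h)
    have a1 : π v * π ⁅e, l0⁆ ≠ 1 := fun h => n2 (mul_left_cancel (h.trans (K.base.pz_sq K.pair.vX).symm))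
    have a2 : π v * π ⁅e, l0⁆ ≠ π v := fun h => n1 (mul_eq_left.1 h)
    have a3 : π v * π ⁅e, l0⁆ ≠ π ⁅e, l0⁆ := fun h => K.pair.pv (mul_eq_right.1 h)
    have b4 : π ⁅e, e * l0 * e⁻¹⁆ ≠ π v * π ⁅e, l0⁆ := fun h => by
      rw [hconj] at h
      set w := π ⁅e, l0⁆ with hw
      have h1 : π e * (π e * w * (π e)⁻¹) * (π e)⁻¹ = w := by
        calc π e * (π e * w * (π e)⁻¹) * (π e)⁻¹ = π e * (π v * w) * (π e)⁻¹ := by rw [h]
          _ = (π e * π v * (π e)⁻¹) * (π e * w * (π e)⁻¹) := by group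
          _ = w := by rw [hev, h, ← mul_assoc, K.base.pz_sq K.pair.vX, one_mul]
      have h3 : π e * (π e * (π e * w * (π e)⁻¹) * (π e)⁻¹) * (π e)⁻¹ = w := by
        calc _ = π e ^ 3 * w * (π e ^ 3)⁻¹ := by simp only [pow_succ, pow_zero, one_mul]; group
          _ = w := by rw [← map_pow, K.he3, map_one]; group
      rw [h1] at h3
      exact n3 h3
    let g : Fin 5 → ↥(W.map π) := ![⟨1, one_mem _⟩, ⟨π v, Subgroup.mem_map_of_mem _ hvW⟩,
      ⟨π ⁅e, l0⁆, Subgroup.mem_map_of_mem _ hu1⟩,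
      ⟨π v * π ⁅e, l0⁆, mul_mem (Subgroup.mem_map_of_mem _ hvW) (Subgroup.mem_map_of_mem _ hu1)⟩,
      ⟨π ⁅e, e * l0 * e⁻¹⁆, Subgroup.mem_map_of_mem _ hu2⟩]
    have hg : Function.Injective g := by
      intro a b h
      have h' := congrArg Subtype.val h
      fin_cases a <;> fin_cases b
      all_goals first
        | rfl
        | exact absurd h' K.pair.pv | exact absurd h'.symm K.pair.pv
        | exact absurd h' n1 | exact absurd h'.symm n1
        | exact absurd h' n2 | exact absurd h'.symm n2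
        | exact absurd h' a1 | exact absurd h'.symm a1
        | exact absurd h' a2 | exact absurd h'.symm a2
        | exact absurd h' a3 | exact absurd h'.symm a3
        | exact absurd h' b1 | exact absurd h'.symm b1
        | exact absurd h' b2 | exact absurd h'.symm b2
        | exact absurd h' b3 | exact absurd h'.symm b3
        | exact absurd h' b4 | exact absurd h'.symm b4
    have h5 := Nat.card_le_card_of_injective g hg
    rw [Nat.card_fin] at h5
    have hm := K.base.card_map hzW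
    obtain ⟨k, -, hk⟩ := K.base.card_pow_two (hWle.trans inf_le_left)
    rw [hk] at hm ⊢
    have : 4 ≤ k := by
      by_contra hlt
      interval_cases k <;> omega
    exact Nat.pow_le_pow_right (n := 2) (by norm_num) this
  have hM : Nat.card ↥(Fx z X e ⊓ Subgroup.centralizer {v}) ≤ 16 := by
    refine (card_le_two_mul (M := Fx z X e ⊓ Subgroup.centralizer {v}) (P := Fx z X e ⊓ (X ⊓ S v))
      (fun x hx => Subgroup.mem_inf.2 ⟨hx.1,
        Subgroup.mem_centralizer_singleton_iff.2 (K.pair.cv x hx.2.2).eq⟩)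
      fun x hx hxP y hy hyP => ?_).trans (by have := K.card_fixI; omega)
    have hcW : ∀ u ∈ Fx z X e ⊓ Subgroup.centralizer {v}, ∀ w ∈ W, Commute u w := by
      intro u hu
      have hle : W ≤ Subgroup.centralizer {u} := (Subgroup.closure_le _).2 (by
        rintro w ((rfl | rfl) | ⟨i, hi, rfl⟩) <;> refine Subgroup.mem_centralizer_singleton_iff.2 ?_
        · exact (K.base.zc u).eq.symm
        · exact (Subgroup.mem_centralizer_singleton_iff.1 hu.2).symm
        · exact (K.base.commute_of_Im_Fx (K.base.mem_Im.2 ⟨i, hi.1, rfl⟩) hu.1).eq)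
      exact fun w hw => (show Commute w u from Subgroup.mem_centralizer_singleton_iff.1 (hle hw)).symm
    have hsep : ∀ u ∈ Fx z X e ⊓ Subgroup.centralizer {v}, u ∉ Fx z X e ⊓ (X ⊓ S v) →
        ∀ i ∈ X ⊓ S v, i ∉ W → ¬ Commute u i := by
      intro u hu huP i hi hiW hc
      refine huP ⟨hu.1, K.base.mem_of_commute32 inf_le_left (K.pair.z_mem_I K.base)
        (fun a ha b hb => K.pair.comm_I K.base ha hb) K.card_I (mem_Fx.1 hu.1).1 fun j hj => ?_⟩
      by_cases hjW : j ∈ W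
      · exact hcW u hu j hjW
      let N := W.subgroupOf (X ⊓ S v)
      have hidx : N.index = 2 := by
        have h1 := N.card_mul_index
        rw [Nat.card_congr (Subgroup.subgroupOfEquivOfLe hWle).toEquiv, K.card_I] at h1
        have hd : Nat.card W ∣ 2 ^ 5 := ⟨N.index, h1.symm⟩
        obtain ⟨k, hk5, hk⟩ := (Nat.dvd_prime_pow Nat.prime_two).1 hd
        rw [hk] at h1 hW16
        have hk4 : 4 ≤ k := by
          by_contra hlt
          interval_cases k <;> omega
        obtain rfl | rfl : k = 4 ∨ k = 5 := by omega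
        · omega
        · exact absurd (show j ∈ W by
            rw [Subgroup.eq_of_le_of_card_ge hWle (by rw [hk, K.card_I]; norm_num)]; exact hj) hjW
      have := (Subgroup.mul_mem_iff_of_index_two hidx (a := (⟨i, hi⟩ : ↥(X ⊓ S v))⁻¹) (b := ⟨j, hj⟩)).2
        (iff_of_false (fun h => hiW (by simpa [N, Subgroup.mem_subgroupOf] using inv_mem h)) hjW)
      have h2 := hc.mul_right (hcW u hu _ (Subgroup.mem_subgroupOf.1 this))
      simpa using h2
    refine Subgroup.mem_inf.2 ⟨mul_mem (inv_mem hx.1) hy.1, K.base.mem_of_commute32 inf_le_left (K.pair.z_mem_I K.base)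
      (fun a ha b hb => K.pair.comm_I K.base ha hb) K.card_I
      (mul_mem (inv_mem (mem_Fx.1 hx.1).1) (mem_Fx.1 hy.1).1) fun j hj => ?_⟩
    by_cases hjW : j ∈ W
    · exact (hcW x hx j hjW).inv_left.mul_left (hcW y hy j hjW)
    · have nx := hsep x hx hxP j hj hjW
      have ny := hsep y hy hyP j hj hjW
      have c1 : x * j * x⁻¹ = j * z :=
        (K.base.good.comm x (mem_Fx.1 hx.1).1 j hj.1).resolve_left fun h => nx (conj_eq_iff_comm.1 h)
      have c2 : y * j * y⁻¹ = j * z :=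
        (K.base.good.comm y (mem_Fx.1 hy.1).1 j hj.1).resolve_left fun h => ny (conj_eq_iff_comm.1 h)
      refine conj_eq_iff_comm.1 ?_
      calc x⁻¹ * y * j * (x⁻¹ * y)⁻¹ = x⁻¹ * (y * j * y⁻¹) * x := by group
        _ = j := by rw [c2, ← c1]; group
  refine (card_le_two_mul (P := Fx z X e ⊓ Subgroup.centralizer {v}) inf_le_left
    fun x hx hxP y hy hyP => Subgroup.mem_inf.2 ⟨mul_mem (inv_mem hx) hy, ?_⟩).trans (by omega)
  have nx : ¬ Commute x v := fun h => hxP ⟨hx, Subgroup.mem_centralizer_singleton_iff.2 h.eq⟩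
  have ny : ¬ Commute y v := fun h => hyP ⟨hy, Subgroup.mem_centralizer_singleton_iff.2 h.eq⟩
  refine Subgroup.mem_centralizer_singleton_iff.2 (conj_eq_iff_comm.1 ?_)
  have c1 : x * v * x⁻¹ = v * z := (K.base.good.comm x (mem_Fx.1 hx).1 v K.pair.vX).resolve_left
    fun h => nx (conj_eq_iff_comm.1 h)
  have c2 : y * v * y⁻¹ = v * z := (K.base.good.comm y (mem_Fx.1 hy).1 v K.pair.vX).resolve_left
    fun h => ny (conj_eq_iff_comm.1 h)
  calc x⁻¹ * y * v * (x⁻¹ * y)⁻¹ = x⁻¹ * (y * v * y⁻¹) * x := by group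
    _ = v := by rw [c2, ← c1]; group

/-- The second element of `3²`. -/
def e' (_K : EvenCtx X z φ C S v s D e G0 c) : H := G0 * e * G0⁻¹

theorem he' (K : EvenCtx X z φ C S v s D e G0 c) : φ K.e' = (1, D.d') := by
  show φ (G0 * e * G0⁻¹) = _
  rw [map_mul, map_mul, map_inv, K.hG, K.he]; exact Prod.ext (by simp) K.ok.gd

theorem he'3 (K : EvenCtx X z φ C S v s D e G0 c) : K.e' ^ 3 = 1 := by
  show (G0 * e * G0⁻¹) ^ 3 = 1
  rw [conj_pow, K.he3, mul_one, mul_inv_cancel]

theorem comm_ee' (K : EvenCtx X z φ C S v s D e G0 c) : Commute (φ K.e') (φ e) := by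
  rw [K.he', K.he]; exact Prod.ext (by simp) K.ok.cdd.symm

theorem comm_ce (K : EvenCtx X z φ C S v s D e G0 c) : Commute (φ c) (φ e) := by
  obtain ⟨p, hp, -, -⟩ := K.hc
  rw [hp, K.he]; exact Prod.ext (by simp) (by simp)

theorem v_mem_Fx (K : EvenCtx X z φ C S v s D e G0 c) : v ∈ Fx z X e :=
  mem_Fx.2 ⟨K.pair.vX, K.e_fix⟩

/-- No element `cⁱ e'ʲ ≠ 1` fixes `v`. -/
theorem free (K : EvenCtx X z φ C S v s D e G0 c) (i j : Fin 3)
    (h : π (c ^ (i : ℕ) * K.e' ^ (j : ℕ) * v * (c ^ (i : ℕ) * K.e' ^ (j : ℕ))⁻¹) = π v) :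
    i = 0 ∧ j = 0 := by
  obtain ⟨p, hp, hp3, hp1⟩ := K.hc
  have hφ : φ (c ^ (i : ℕ) * K.e' ^ (j : ℕ)) = (p ^ (i : ℕ), D.d' ^ (j : ℕ)) := by
    rw [map_mul, map_pow, map_pow, hp, K.he']; exact Prod.ext (by simp) (by simp)
  obtain ⟨h1, h2, h3, -, -⟩ := three_fst p hp3 hp1 s K.hax.1 K.hax.2.1
  have hi : i = 0 := by
    rcases K.fam.fst_of_fix K.base K.hv K.hax h with e1 | e1 <;> rw [hφ] at e1 <;>
      fin_cases i <;> simp at e1 ⊢ <;> first
        | exact hp1 e1
        | exact h2 e1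
        | exact h1 e1
        | exact h3 e1
        | exact K.hax.2.1 e1.symm
  refine ⟨hi, ?_⟩
  subst hi
  have key : ∀ x ∈ D.F, D.d' ^ (j : ℕ) * x * (D.d' ^ (j : ℕ))⁻¹ = 1 ∨
      D.d' ^ (j : ℕ) * x * (D.d' ^ (j : ℕ))⁻¹ ∈ D.F := by
    intro x hx
    have hm := K.fam.img_norm K.base K.hv h (K.mem_F hx)
    rw [hφ] at hm
    rcases K.img_cases hm with ⟨-, h2'⟩ | ⟨h1', -⟩
    · simpa using h2'
    · exfalso
      simp at h1'
      exact K.hax.2.1 h1'.symm
  have nt : ∀ x ∈ D.F, x ≠ 1 → D.d' ^ (j : ℕ) * x * (D.d' ^ (j : ℕ))⁻¹ ∈ D.F := fun x hx hx1 =>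
    (key x hx).resolve_left fun h => hx1 (mul_eq_left.1 (mul_inv_eq_one.1 h))
  have ha := nt D.a (by simp [Std.F]) K.ok.a1
  have hb := nt D.b (by simp [Std.F]) K.ok.b1
  fin_cases j
  · rfl
  · exfalso
    rcases K.ok.move1 with m | m
    · exact m (by simpa using ha)
    · exact m (by simpa using hb)
  · exfalso
    rcases K.ok.move2 with m | m
    · exact m (by simpa using ha)
    · exact m (by simpa using hb)

theorem e'_not_fix (K : EvenCtx X z φ C S v s D e G0 c) : π (K.e' * v * K.e'⁻¹) ≠ π v := fun h =>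
  absurd (K.free 0 1 (by simpa using h)).2 (by decide)

theorem card_Fx (K : EvenCtx X z φ C S v s D e G0 c) : Nat.card ↥(Fx z X e) = 32 := by
  have hc' : ∀ i j : ℕ, Commute (φ (c ^ i * K.e' ^ j)) (φ e) := fun i j => by
    rw [map_mul, map_pow, map_pow]
    exact (K.comm_ce.pow_left i).mul_left (K.comm_ee'.pow_left j)
  have hnorm : ∀ h : H, Commute (φ h) (φ e) → h * v * h⁻¹ ∈ Fx z X e := fun h hh =>
    K.base.conj_mem_Fx_of_comm hh K.v_mem_Fx
  let f : Option (Fin 3 × Fin 3) → ↥((Fx z X e).map π) := fun o =>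
    match o with
    | none => ⟨1, one_mem _⟩
    | some (i, j) => ⟨π (c ^ (i : ℕ) * K.e' ^ (j : ℕ) * v * (c ^ (i : ℕ) * K.e' ^ (j : ℕ))⁻¹),
        Subgroup.mem_map_of_mem _ (hnorm _ (hc' _ _))⟩
  have hne : ∀ h : H, π (h * v * h⁻¹) ≠ 1 := fun h =>
    (K.fam.pair _ (K.fam.conj h v K.hv)).pv
  have hce : Commute (φ c) (φ K.e') := by
    obtain ⟨p, hp, -, -⟩ := K.hc
    rw [hp, K.he']; exact Prod.ext (by simp) (by simp)
  have hinj : Function.Injective f := by
    rintro (_ | ⟨i, j⟩) (_ | ⟨i', j'⟩) h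
    · rfl
    · exact absurd (congrArg Subtype.val h).symm (hne _)
    · exact absurd (congrArg Subtype.val h) (hne _)
    · have h' := congrArg Subtype.val h
      simp only [f] at h'
      have e3 : (φ K.e') ^ 3 = 1 := by rw [← map_pow, K.he'3, map_one]
      have c3 : (φ c) ^ 3 = 1 := by
        obtain ⟨p, hp, hp3, -⟩ := K.hc
        rw [hp, Prod.pow_mk, hp3, one_pow]; rfl
      set k : ℕ := (((i : ℕ) + (3 - (i' : ℕ))) % 3) with hk
      set l : ℕ := (((j : ℕ) + (3 - (j' : ℕ))) % 3) with hl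
      have hφ : φ ((c ^ (i' : ℕ) * K.e' ^ (j' : ℕ))⁻¹ * (c ^ (i : ℕ) * K.e' ^ (j : ℕ))) =
          φ (c ^ k * K.e' ^ l) := by
        simp only [map_mul, map_inv, map_pow]
        rw [inv_mul_eq_iff_eq_mul]
        calc φ c ^ (i : ℕ) * φ K.e' ^ (j : ℕ) = φ c ^ ((i' : ℕ) + k) * φ K.e' ^ ((j' : ℕ) + l) := by
              rw [pow_eq_pow_mod _ c3, pow_eq_pow_mod ((i' : ℕ) + k) c3, pow_eq_pow_mod _ e3,
                pow_eq_pow_mod ((j' : ℕ) + l) e3]
              congr 2 <;> omega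
          _ = _ := by
              rw [pow_add, pow_add, mul_assoc, ← mul_assoc (φ c ^ k), (hce.pow_pow k (j' : ℕ)).eq]
              group
      have hfix : π (c ^ k * K.e' ^ l * v * (c ^ k * K.e' ^ l)⁻¹) = π v := by
        rw [← K.base.pz_conj_congr hφ K.pair.vX]
        simp only [map_mul, map_inv, mul_inv_rev, inv_inv] at h' ⊢
        calc _ = (π (K.e' ^ (j' : ℕ)))⁻¹ * (π (c ^ (i' : ℕ)))⁻¹ *
              (π (c ^ (i : ℕ)) * π (K.e' ^ (j : ℕ)) * π v *
                ((π (K.e' ^ (j : ℕ)))⁻¹ * (π (c ^ (i : ℕ)))⁻¹)) *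
              (π (c ^ (i' : ℕ)) * π (K.e' ^ (j' : ℕ))) := by group
          _ = _ := by rw [h']; group
      obtain ⟨hi, hj⟩ := K.free ⟨k, Nat.mod_lt _ (by norm_num)⟩ ⟨l, Nat.mod_lt _ (by norm_num)⟩ hfix
      have hi' : k = 0 := congrArg Fin.val hi
      have hj' : l = 0 := congrArg Fin.val hj
      have : i = i' ∧ j = j' := ⟨Fin.ext (by omega), Fin.ext (by omega)⟩
      rw [this.1, this.2]
  have h10 := Nat.card_le_card_of_injective f hinj
  rw [Nat.card_eq_fintype_card, Fintype.card_option, Fintype.card_prod, Fintype.card_fin] at h10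
  have h2 := K.base.card_map (K.base.z_mem_Fx e)
  have h32 := K.card_Fx_le
  obtain ⟨k, -, hk⟩ := K.base.card_pow_two (Y := Fx z X e) fun a ha => (mem_Fx.1 ha).1
  rw [hk] at h2 h32 ⊢
  have : k = 5 := by
    rcases Nat.lt_or_ge k 5 with hlt | hge
    · interval_cases k <;> omega
    · have : k ≤ 5 := (Nat.pow_le_pow_iff_right one_lt_two).1 (h32.trans_eq (by norm_num))
      omega
  subst this; norm_num

theorem card_Im (K : EvenCtx X z φ C S v s D e G0 c) : Nat.card ↥(K.base.Im e) = 32 := by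
  have := K.base.card_Im_mul_Fx e; rw [K.card_Fx] at this; omega

end EvenCtx

end Cfsg.Agent.Lib.LargeNine45.Even
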