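import Cfsg.Agent.Lib.LargeNine45.Even.Fix

/-!
The subgroup `3²` of `A₆` fixes nothing modulo `⟨z⟩` (helper45).
-/

set_option autoImplicit false

namespace Cfsg.Agent.Lib.LargeNine45.Even

open Equiv LargeExtra
open scoped commutatorElement

/-- In a group, `E³ = 1` and `E x E⁻¹ = E⁻¹ x E` imply that `E` centralises `x`. -/
theorem fix_of_inv_eq {M : Type*} [Group M] {E x : M} (h3 : E ^ 3 = 1)
    (h : E * x * E⁻¹ = E⁻¹ * x * E) : E * x * E⁻¹ = x := by
  have h2 : E * E * x * (E * E)⁻¹ = x := by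
    calc E * E * x * (E * E)⁻¹ = E * (E * x * E⁻¹) * E⁻¹ := by group
      _ = x := by rw [h]; group
  calc E * x * E⁻¹ = E * (E * E * x * (E * E)⁻¹) * E⁻¹ := by rw [h2]
    _ = E ^ 3 * x * (E ^ 3)⁻¹ := by simp only [pow_succ, pow_zero, one_mul]; group
    _ = x := by rw [h3]; group

theorem card_mul_relIndex_of_le {M : Type*} [Group M] {U V : Subgroup M} (h : U ≤ V) :
    Nat.card U * U.relIndex V = Nat.card V := by
  rw [← Nat.card_congr (Subgroup.subgroupOfEquivOfLe h).toEquiv, Subgroup.relIndex,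
    Subgroup.card_mul_index]

variable {H : Type*} [Group H] [Finite H] {X : Subgroup H} {z : H} {φ : H →* T}
variable [(Subgroup.zpowers z).Normal]

local notation "π" => pz z

variable {C : H → Prop} {S : H → Subgroup H} {v : H} {s : P3} {D : Std} {e G0 c : H}

namespace EvenCtx

theorem phi_G (K : EvenCtx X z φ C S v s D e G0 c) : φ (G0 * K.e' * G0⁻¹) = φ e⁻¹ := by
  rw [map_mul, map_mul, map_inv, map_inv, K.hG, K.he', K.he]; exact Prod.ext (by simp) K.ok.gd'

theorem G_Fx (K : EvenCtx X z φ C S v s D e G0 c) {a : H} (ha : a ∈ Fx z X e) :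
    G0 * a * G0⁻¹ ∈ Fx z X K.e' := K.base.conj_mem_Fx ha

theorem G_Fx' (K : EvenCtx X z φ C S v s D e G0 c) {a : H} (ha : a ∈ Fx z X K.e') :
    G0 * a * G0⁻¹ ∈ Fx z X e := by
  have := K.base.conj_mem_Fx (h := G0) ha
  rwa [K.base.Fx_congr K.phi_G, K.base.Fx_inv] at this

theorem G_Im (K : EvenCtx X z φ C S v s D e G0 c) {a : H} (ha : a ∈ K.base.Im e) :
    G0 * a * G0⁻¹ ∈ K.base.Im K.e' := K.base.conj_mem_Im ha

theorem G_Im' (K : EvenCtx X z φ C S v s D e G0 c) {a : H} (ha : a ∈ K.base.Im K.e') :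
    G0 * a * G0⁻¹ ∈ K.base.Im e := by
  have := K.base.conj_mem_Im (h := G0) ha
  rwa [K.base.Im_congr K.phi_G, K.base.Im_inv] at this

theorem e'_X (K : EvenCtx X z φ C S v s D e G0 c) : K.e' ^ 3 ∈ X := by rw [K.he'3]; exact one_mem X

theorem card_Fx' (K : EvenCtx X z φ C S v s D e G0 c) : Nat.card ↥(Fx z X K.e') = 32 := by
  rw [← K.card_Fx]
  apply le_antisymm
  · exact Nat.card_le_card_of_injective (fun a => ⟨_, K.G_Fx' a.2⟩) fun a b h =>
      Subtype.ext (mul_left_cancel (mul_right_cancel (Subtype.ext_iff.1 h)))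
  · exact Nat.card_le_card_of_injective (fun a => ⟨_, K.G_Fx a.2⟩) fun a b h =>
      Subtype.ext (mul_left_cancel (mul_right_cancel (Subtype.ext_iff.1 h)))

theorem card_Im' (K : EvenCtx X z φ C S v s D e G0 c) : Nat.card ↥(K.base.Im K.e') = 32 := by
  have := K.base.card_Im_mul_Fx K.e'; rw [K.card_Fx'] at this; omega

/-- `Fx e = (Fx e ∩ Fx e') [Fx e, e']` modulo `⟨z⟩`. -/
theorem split (K : EvenCtx X z φ C S v s D e G0 c) {y : H} (hy : y ∈ Fx z X e) :
    ∃ k ∈ Fx z X e ⊓ Fx z X K.e', ∃ m ∈ K.base.Im K.e', π y = π k * π m := by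
  have hc : Commute (φ K.e') (φ e) := K.comm_ee'
  have h1 := K.base.conj_mem_Fx_of_comm hc hy
  have h2 := K.base.conj_mem_Fx_of_comm hc h1
  obtain ⟨y1, hy1⟩ : ∃ a, a = K.e' * y * K.e'⁻¹ := ⟨_, rfl⟩
  rw [← hy1] at h1 h2
  obtain ⟨y2, hy2⟩ : ∃ a, a = K.e' * y1 * K.e'⁻¹ := ⟨_, rfl⟩
  rw [← hy2] at h2
  have hX : ∀ {a : H}, a ∈ Fx z X e → a ∈ X := fun ha => (mem_Fx.1 ha).1
  have hC : π K.e' * π y2 * (π K.e')⁻¹ = π y := by
    calc π K.e' * π y2 * (π K.e')⁻¹ = π (K.e' ^ 3 * y * (K.e' ^ 3)⁻¹) := by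
          rw [← map_inv, ← map_mul, ← map_mul, hy2, hy1]
          congr 1
          simp only [pow_succ, pow_zero, one_mul]; group
      _ = π y := by rw [K.he'3]; simp
  have hk : y * y1 * y2 ∈ Fx z X K.e' := by
    refine mem_Fx.2 ⟨mul_mem (mul_mem (hX hy) (hX h1)) (hX h2), ?_⟩
    have e1 : π K.e' * π y * (π K.e')⁻¹ = π y1 := by rw [hy1]; simp only [map_mul, map_inv]
    have e2 : π K.e' * π y1 * (π K.e')⁻¹ = π y2 := by rw [hy2]; simp only [map_mul, map_inv]
    simp only [map_mul, map_inv]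
    calc π K.e' * (π y * π y1 * π y2) * (π K.e')⁻¹
        = π K.e' * π y * (π K.e')⁻¹ * (π K.e' * π y1 * (π K.e')⁻¹) *
          (π K.e' * π y2 * (π K.e')⁻¹) := by group
      _ = π (y1 * y2) * π y := by rw [e1, e2, hC, map_mul]
      _ = π y * π (y1 * y2) := (K.base.pz_comm (mul_mem (hX h1) (hX h2)) (hX hy)).eq
      _ = π y * π y1 * π y2 := by rw [map_mul, mul_assoc]
  refine ⟨y * y1 * y2, ⟨mul_mem (mul_mem hy h1) h2, hk⟩, (y * y1 * y2)⁻¹ * y,
    K.base.mem_Im.2 ⟨y1, hX h1, ?_⟩, by rw [← map_mul (π), mul_inv_cancel_left]⟩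
  calc π ⁅K.e', y1⁆ = π (y2 * y1⁻¹) := by rw [commutatorElement_def, hy2]
    _ = (π y2)⁻¹ * (π y1)⁻¹ := by rw [map_mul, map_inv, K.base.pz_inv (hX h2)]
    _ = π ((y * y1 * y2)⁻¹ * y) := by simp only [map_mul, map_inv, mul_inv_rev]; group

theorem norm_R4 (K : EvenCtx X z φ C S v s D e G0 c) {h a : H} (h1 : Commute (φ h) (φ e))
    (h2 : Commute (φ h) (φ K.e')) (ha : a ∈ K.base.Im e ⊓ K.base.Im K.e') :
    h * a * h⁻¹ ∈ K.base.Im e ⊓ K.base.Im K.e' :=
  ⟨K.base.conj_mem_Im_of_comm h1 ha.1, K.base.conj_mem_Im_of_comm h2 ha.2⟩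

/-- `3²` fixes nothing. -/
theorem kill (K : EvenCtx X z φ C S v s D e G0 c) {x : H} (hx : x ∈ Fx z X e)
    (hx' : x ∈ Fx z X K.e') : π x = 1 := by
  by_contra hx1
  set K0 := Fx z X e ⊓ Fx z X K.e' with hK0
  have hK0X : K0 ≤ X := fun a ha => (mem_Fx.1 ha.1).1
  have hzK : z ∈ K0 := ⟨K.base.z_mem_Fx e, K.base.z_mem_Fx K.e'⟩
  obtain ⟨hcov, -⟩ := K.base.cover32 (U := Fx z X e) (V := K.base.Im e)
    (fun a ha => (mem_Fx.1 ha).1) (K.base.Im_le e) (K.base.z_mem_Fx e) (K.base.z_mem_Im e)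
    K.card_Fx K.card_Im fun a ha hb => K.base.meet K.e_X ha hb
  obtain ⟨x2, hx2, hxx2⟩ : ∃ x2 ∈ K0, ¬ Commute x x2 := by
    by_contra hall
    push Not at hall
    refine hx1 ?_
    have hcen : ∀ w ∈ X, x * w = w * x := by
      intro w hw
      obtain ⟨a, ha, b, hb, e1⟩ := hcov w hw
      obtain ⟨k, hk, m, hm, e2⟩ := K.split ha
      rw [e2, ← map_mul, ← map_mul] at e1
      have : Commute (k * m * b) x := ((hall k hk).symm.mul_left
        (K.base.commute_of_Im_Fx hm hx')).mul_left (K.base.commute_of_Im_Fx hb hx)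
      exact ((K.base.commute_congr e1).2 this).eq.symm
    rcases K.base.good.centre x (hK0X ⟨hx, hx'⟩) hcen with r | r <;> rw [r]
    exacts [map_one _, pz_z]
  have h8 : 8 ≤ Nat.card K0 := by
    have n1 : π x2 ≠ 1 := fun h => hxx2 ((K.base.commute_congr
      (h.trans (map_one π).symm)).2 (Commute.one_left x)).symm
    have n2 : π x2 ≠ π x := fun h => hxx2 ((K.base.commute_congr h).2 (Commute.refl x)).symm
    let g : Fin 3 → ↥(K0.map π) := ![⟨1, one_mem _⟩, ⟨π x, Subgroup.mem_map_of_mem _ ⟨hx, hx'⟩⟩,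
      ⟨π x2, Subgroup.mem_map_of_mem _ hx2⟩]
    have hg : Function.Injective g := by
      intro a b h
      have h' := congrArg Subtype.val h
      fin_cases a <;> fin_cases b
      all_goals first
        | rfl
        | exact absurd h' hx1 | exact absurd h'.symm hx1
        | exact absurd h' n1 | exact absurd h'.symm n1
        | exact absurd h' n2 | exact absurd h'.symm n2
    have h3 := Nat.card_le_card_of_injective g hg
    rw [Nat.card_fin] at h3
    have hm := K.base.card_map hzK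
    obtain ⟨k, -, hk⟩ := K.base.card_pow_two hK0X
    rw [hk] at hm ⊢
    have : 3 ≤ k := by
      by_contra hlt
      interval_cases k <;> omega
    exact Nat.pow_le_pow_right (n := 2) (by norm_num) this
  -- the centraliser of `K0`
  set Cm := X ⊓ Subgroup.centralizer (K0 : Set H) with hCm
  have hCm128 : Nat.card Cm ≤ 128 := by
    have h := mul_centIn_le K.base.good K0 hK0X hzK
    rw [K.base.card] at h
    have hset : centIn X K0 = (Cm : Set H) := by
      ext q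
      refine ⟨fun hq => ⟨hq.1, Subgroup.mem_centralizer_iff.2 fun a ha => (hq.2 a ha).symm⟩,
        fun hq => ⟨hq.1, fun a ha => (Subgroup.mem_centralizer_iff.1 hq.2 a ha).symm⟩⟩
    rw [hset, ← Nat.card_coe_set_eq] at h
    have h' : Nat.card ↥K0 * Nat.card ↥Cm ≤ 2 * 512 := h
    have := (Nat.mul_le_mul h8 (le_refl (Nat.card ↥Cm))).trans h'
    omega
  have hIe : K.base.Im e ≤ Cm := fun a ha => ⟨K.base.Im_le e ha,
    Subgroup.mem_centralizer_iff.2 fun k hk => (K.base.commute_of_Im_Fx ha hk.1).eq.symm⟩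
  have hIe' : K.base.Im K.e' ≤ Cm := fun a ha => ⟨K.base.Im_le _ ha,
    Subgroup.mem_centralizer_iff.2 fun k hk => (K.base.commute_of_Im_Fx ha hk.2).eq.symm⟩
  set R4 := K.base.Im e ⊓ K.base.Im K.e' with hR4
  have hR8 : 8 ≤ Nat.card R4 := by
    have e1 : Nat.card R4 * R4.relIndex (K.base.Im e) = 32 := by
      rw [card_mul_relIndex_of_le inf_le_left, K.card_Im]
    have e2 : Nat.card ↥(K.base.Im K.e') * (K.base.Im K.e').relIndex Cm = Nat.card Cm :=
      card_mul_relIndex_of_le hIe'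
    rw [K.card_Im'] at e2
    have hne : (K.base.Im K.e').relIndex Cm ≠ 0 := fun h => by
      have hpos : 0 < Nat.card Cm := Nat.card_pos
      rw [h] at e2; omega
    have hle : R4.relIndex (K.base.Im e) ≤ (K.base.Im K.e').relIndex Cm := by
      rw [hR4, Subgroup.inf_relIndex_left]
      exact Subgroup.relIndex_le_of_le_right hIe hne
    have h4 : R4.relIndex (K.base.Im e) ≤ 4 := by omega
    have := Nat.mul_le_mul (le_refl (Nat.card ↥R4)) h4
    omega
  have hR4X : R4 ≤ X := inf_le_left.trans (K.base.Im_le e)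
  have hzR : z ∈ R4 := ⟨K.base.z_mem_Im e, K.base.z_mem_Im _⟩
  have hfe : ∀ a ∈ R4, π (e * a * e⁻¹) = π a → π a = 1 := fun a ha h =>
    K.base.meet K.e_X (mem_Fx.2 ⟨hR4X ha, h⟩) ha.1
  have hne : ∀ {a : H}, a ∈ R4 → e * a * e⁻¹ ∈ R4 := fun ha =>
    K.norm_R4 (Commute.refl _) K.comm_ee'.symm ha
  have hne' : ∀ {a : H}, a ∈ R4 → K.e' * a * K.e'⁻¹ ∈ R4 := fun ha =>
    K.norm_R4 K.comm_ee' (Commute.refl _) ha
  have hmod := K.base.card_map_mod_three hR4X K.e_X (fun a ha => hne ha) hfe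
  have hm := K.base.card_map hzR
  obtain ⟨k, -, hk⟩ := K.base.card_pow_two hR4X
  have hk5 : k ≤ 5 := by
    have h32 : Nat.card ↥R4 ≤ 32 := le_of_le_of_eq (Subgroup.card_le_of_le inf_le_left) K.card_Im
    rw [hk] at h32
    exact (Nat.pow_le_pow_iff_right one_lt_two).1 (h32.trans_eq (by norm_num))
  have hk3 : 3 ≤ k := by
    rw [hk] at hR8
    exact (Nat.pow_le_pow_iff_right one_lt_two).1 (le_of_eq_of_le (by norm_num) hR8)
  have hk4 : k ≠ 4 := by
    rintro rfl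
    rw [hk] at hm
    have : Nat.card ↥(R4.map π) = 8 := by omega
    rw [this] at hmod
    omega
  have hk5' : k ≠ 5 := by
    rintro rfl
    have he1 : R4 = K.base.Im e :=
      Subgroup.eq_of_le_of_card_ge inf_le_left (by rw [K.card_Im, hk]; norm_num)
    have he2 : R4 = K.base.Im K.e' :=
      Subgroup.eq_of_le_of_card_ge inf_le_right (by rw [K.card_Im', hk]; norm_num)
    refine K.e'_not_fix (mem_Fx.1 (K.base.mem_Fx_of_commute (f := K.e') K.pair.vX fun y hy => ?_)).2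
    have hmem : ⁅K.e', y⁆ ∈ K.base.Im e := he1 ▸ he2.symm ▸ K.base.mem_Im.2 ⟨y, hy, rfl⟩
    exact (K.base.commute_of_Im_Fx hmem K.v_mem_Fx).symm
  have h4 : Nat.card ↥(R4.map π) = 4 := by
    obtain rfl : k = 3 := by omega
    rw [hk] at hm
    omega
  -- `e'` is a power of `e` on `R4`
  obtain ⟨l, hl, hl1⟩ : ∃ l ∈ R4, π l ≠ 1 := by
    by_contra hall
    push Not at hall
    have : R4.map π = ⊥ := (Subgroup.eq_bot_iff_forall _).2 (by
      rintro _ ⟨a, ha, rfl⟩; exact hall a ha)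
    rw [this, Subgroup.card_bot] at h4
    omega
  set E := π e with hE
  set E' := π K.e' with hE'
  have hE3 : E ^ 3 = 1 := by rw [hE, ← map_pow, K.he3, map_one]
  have hswap : ∀ a ∈ X, E' * (E * π a * E⁻¹) * E'⁻¹ = E * (E' * π a * E'⁻¹) * E⁻¹ := fun a ha => by
    have := K.base.pz_conj_congr (f := K.e' * e) (f' := e * K.e')
      (by rw [map_mul, map_mul, K.comm_ee'.eq]) ha
    simp only [map_mul, map_inv, mul_inv_rev] at this
    calc E' * (E * π a * E⁻¹) * E'⁻¹ = π K.e' * π e * π a * ((π e)⁻¹ * (π K.e')⁻¹) := by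
          rw [hE, hE']; group
      _ = _ := by rw [this, hE, hE']; group
  have hc : ∀ {h a : H}, π (h * a * h⁻¹) = π h * π a * (π h)⁻¹ := fun {h a} => by
    simp only [map_mul, map_inv]
  have hfix1 : ∀ a ∈ R4, π a ≠ 1 → E * π a * E⁻¹ ≠ π a := fun a ha h1 h =>
    h1 (hfe a ha (by rw [hc]; exact h))
  -- the four elements
  have hset : ∀ a ∈ R4, π a = 1 ∨ π a = π l ∨ π a = E * π l * E⁻¹ ∨
      π a = E * (E * π l * E⁻¹) * E⁻¹ := by
    intro a ha
    have hl' := hne hl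
    have hl'' := hne hl'
    let g : Fin 4 → ↥(R4.map π) := ![⟨1, one_mem _⟩, ⟨π l, Subgroup.mem_map_of_mem _ hl⟩,
      ⟨π (e * l * e⁻¹), Subgroup.mem_map_of_mem _ hl'⟩,
      ⟨π (e * (e * l * e⁻¹) * e⁻¹), Subgroup.mem_map_of_mem _ hl''⟩]
    have c1 : π (e * l * e⁻¹) ≠ 1 := fun h => hl1 (by
      rw [hc] at h; exact mul_eq_left.1 (mul_inv_eq_one.1 h))
    have c2 : π (e * l * e⁻¹) ≠ π l := fun h => hl1 (hfe l hl h)
    have c3 : π (e * (e * l * e⁻¹) * e⁻¹) ≠ 1 := fun h => c1 (by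
      rw [hc] at h; exact mul_eq_left.1 (mul_inv_eq_one.1 h))
    have c4 : π (e * (e * l * e⁻¹) * e⁻¹) ≠ π (e * l * e⁻¹) := fun h => c1 (hfe _ hl' h)
    have c5 : π (e * (e * l * e⁻¹) * e⁻¹) ≠ π l := fun h => by
      refine c2 ?_
      calc π (e * l * e⁻¹) = E * π l * E⁻¹ := hc
        _ = E * π (e * (e * l * e⁻¹) * e⁻¹) * E⁻¹ := by rw [h]
        _ = π (e ^ 3 * l * (e ^ 3)⁻¹) := by
            rw [← hc]; congr 1; simp only [pow_succ, pow_zero, one_mul]; group
        _ = π l := by rw [K.he3]; simp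
    have hg : Function.Injective g := by
      intro a b h
      have h' := congrArg Subtype.val h
      fin_cases a <;> fin_cases b
      all_goals first
        | rfl
        | exact absurd h' hl1 | exact absurd h'.symm hl1
        | exact absurd h' c1 | exact absurd h'.symm c1
        | exact absurd h' c2 | exact absurd h'.symm c2
        | exact absurd h' c3 | exact absurd h'.symm c3
        | exact absurd h' c4 | exact absurd h'.symm c4
        | exact absurd h' c5 | exact absurd h'.symm c5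
    obtain ⟨i, hi⟩ := (hg.bijective_of_nat_card_le (by rw [Nat.card_fin, h4])).2
      ⟨π a, Subgroup.mem_map_of_mem _ ha⟩
    have hi' := congrArg Subtype.val hi
    fin_cases i
    · exact Or.inl hi'.symm
    · exact Or.inr (Or.inl hi'.symm)
    · exact Or.inr (Or.inr (Or.inl (hi'.symm.trans hc)))
    · refine Or.inr (Or.inr (Or.inr (hi'.symm.trans ?_)))
      show π (e * (e * l * e⁻¹) * e⁻¹) = _
      rw [hc, hc]
  have hl'ne : E' * π l * E'⁻¹ ≠ π l := fun h =>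
    hl1 (K.base.meet K.e'_X (mem_Fx.2 ⟨hR4X hl, by rw [hc]; exact h⟩) hl.2)
  -- apply `G0`
  obtain ⟨hl2, hl21⟩ : G0 * l * G0⁻¹ ∈ R4 ∧ π (G0 * l * G0⁻¹) ≠ 1 :=
    ⟨⟨K.G_Im' hl.2, K.G_Im hl.1⟩, fun h => hl1 (by
      rw [hc] at h; exact mul_eq_left.1 (mul_inv_eq_one.1 h))⟩
  set l2 := G0 * l * G0⁻¹ with hl2def
  have hGE : E' * π l2 * E'⁻¹ = π (G0 * (e * l * e⁻¹) * G0⁻¹) := by
    rw [hE', ← hc]
    congr 1
    show G0 * e * G0⁻¹ * l2 * (G0 * e * G0⁻¹)⁻¹ = _
    rw [hl2def]; group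
  have hGE' : E⁻¹ * π l2 * E = π (G0 * (K.e' * l * K.e'⁻¹) * G0⁻¹) := by
    have := K.base.pz_conj_congr K.phi_G (hR4X hl2)
    rw [hc (h := e⁻¹), map_inv, inv_inv] at this
    rw [hE, ← this]
    congr 1
    rw [hl2def]; group
  have key : E * π l2 * E⁻¹ = E⁻¹ * π l2 * E := by
    rcases hset _ (hne' hl) with r | r | r | r <;> rw [hc] at r
    · exact absurd (mul_eq_left.1 (mul_inv_eq_one.1 r)) hl1
    · exact absurd r hl'ne
    · -- `e' = e` on `R4`
      have hall : ∀ a ∈ R4, E' * π a * E'⁻¹ = E * π a * E⁻¹ := by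
        intro a ha
        rcases hset a ha with q | q | q | q <;> rw [q]
        · group
        · exact r
        · rw [hswap l (hR4X hl), r]
        · have := hswap _ (hR4X (hne hl))
          rw [hc] at this
          rw [this, hswap l (hR4X hl), r]
      rw [hGE']
      rw [← hall _ hl2, hGE, hc, hc, hc (h := G0), hc (h := K.e'), r]
    · -- `e' = e⁻¹` on `R4`
      have hall : ∀ a ∈ R4, E' * π a * E'⁻¹ = E⁻¹ * π a * E := by
        intro a ha
        have hinv : ∀ w : H ⧸ Subgroup.zpowers z, E * (E * w * E⁻¹) * E⁻¹ = E⁻¹ * w * E := fun w => by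
          calc E * (E * w * E⁻¹) * E⁻¹ = E⁻¹ * (E ^ 3 * w * (E ^ 3)⁻¹) * E := by
                simp only [pow_succ, pow_zero, one_mul]; group
            _ = _ := by rw [hE3]; group
        have r' : E' * π l * E'⁻¹ = E⁻¹ * π l * E := r.trans (hinv _)
        rcases hset a ha with q | q | q | q <;> rw [q]
        · group
        · exact r'
        · rw [hswap l (hR4X hl), r']; group
        · have := hswap _ (hR4X (hne hl))
          rw [hc] at this
          rw [this, hswap l (hR4X hl), r']; group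
      have h5 : π (G0 * (K.e' * (e * l * e⁻¹) * K.e'⁻¹) * G0⁻¹) = π l2 := by
        rw [hc, hc, hall _ (hne hl), hc, hl2def, hc, hE]; group
      have h6 : E⁻¹ * (E' * π l2 * E'⁻¹) * E = π l2 := by
        have := K.base.pz_conj_congr K.phi_G (hR4X (show G0 * (e * l * e⁻¹) * G0⁻¹ ∈ R4 from
          ⟨K.G_Im' (hne hl).2, K.G_Im (hne hl).1⟩))
        rw [hc (h := e⁻¹), map_inv, inv_inv] at this
        rw [hGE, hE, ← this]
        refine Eq.trans ?_ h5
        congr 1; group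
      rw [hall _ hl2] at h6
      calc E * π l2 * E⁻¹ = E * (E⁻¹ * (E⁻¹ * π l2 * E) * E) * E⁻¹ := by rw [h6]
        _ = E⁻¹ * π l2 * E := by group
  exact hl21 (hfe l2 hl2 (by rw [hc]; exact fix_of_inv_eq hE3 key))

/-- Mixed elements of `3²` fix nothing. -/
theorem mixed (K : EvenCtx X z φ C S v s D e G0 c) {h x : H}
    (hh : φ h = (1, D.d * D.d' ^ 2)) (hx : x ∈ Fx z X h) : π x = 1 := by
  obtain ⟨hcov, huniq⟩ := K.base.cover32 (U := Fx z X e) (V := Fx z X K.e')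
    (fun a ha => (mem_Fx.1 ha).1) (fun a ha => (mem_Fx.1 ha).1) (K.base.z_mem_Fx e)
    (K.base.z_mem_Fx _) K.card_Fx K.card_Fx' fun a ha hb => K.kill ha hb
  obtain ⟨a, ha, b, hb, e1⟩ := hcov x (mem_Fx.1 hx).1
  have hφ : φ h = φ (e * K.e' ^ 2) := by
    rw [hh, map_mul, map_pow, K.he, K.he']; exact Prod.ext (by simp) rfl
  have h2 : Commute (φ (K.e' ^ 2)) (φ e) := by rw [map_pow]; exact K.comm_ee'.pow_left 2
  have ha2 := K.base.conj_mem_Fx_of_comm h2 ha
  have hb2 : e * b * e⁻¹ ∈ Fx z X K.e' := K.base.conj_mem_Fx_of_comm K.comm_ee'.symm hb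
  have hfix := (mem_Fx.1 hx).2
  rw [K.base.pz_conj_congr hφ (mem_Fx.1 hx).1] at hfix
  have ea := (mem_Fx.1 ha2).2
  have eb := (mem_Fx.1 hb).2
  simp only [map_mul, map_inv, map_pow] at hfix ea eb
  have eb2 : π K.e' ^ 2 * π b * (π K.e' ^ 2)⁻¹ = π b := by
    calc π K.e' ^ 2 * π b * (π K.e' ^ 2)⁻¹ = π K.e' * (π K.e' * π b * (π K.e')⁻¹) * (π K.e')⁻¹ := by
          simp only [pow_succ, pow_zero, one_mul]; group
      _ = π b := by rw [eb, eb]
  have key : π (K.e' ^ 2 * a * (K.e' ^ 2)⁻¹) * π (e * b * e⁻¹) = π a * π b := by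
    rw [← e1, ← hfix, e1]
    simp only [map_mul, map_inv, map_pow]
    calc π K.e' ^ 2 * π a * (π K.e' ^ 2)⁻¹ * (π e * π b * (π e)⁻¹)
        = π e * (π K.e' ^ 2 * π a * (π K.e' ^ 2)⁻¹) * (π e)⁻¹ *
          (π e * (π K.e' ^ 2 * π b * (π K.e' ^ 2)⁻¹) * (π e)⁻¹) := by rw [ea, eb2]
      _ = _ := by group
  obtain ⟨h3, h4⟩ := huniq _ ha2 _ hb2 a ha b hb key
  have hae : π (K.e' * a * K.e'⁻¹) = π a := by
    simp only [map_mul, map_inv, map_pow] at h3 ⊢
    calc π K.e' * π a * (π K.e')⁻¹ = π K.e' * (π K.e' ^ 2 * π a * (π K.e' ^ 2)⁻¹) * (π K.e')⁻¹ := by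
          rw [h3]
      _ = π K.e' ^ 3 * π a * (π K.e' ^ 3)⁻¹ := by simp only [pow_succ, pow_zero, one_mul]; group
      _ = π a := by rw [← map_pow, K.he'3, map_one]; group
  rw [e1, K.kill ha (mem_Fx.2 ⟨(mem_Fx.1 ha).1, hae⟩),
    K.kill (mem_Fx.2 ⟨(mem_Fx.1 hb).1, h4⟩) hb, mul_one]

end EvenCtx

end Cfsg.Agent.Lib.LargeNine45.Even
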