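import Cfsg.Agent.Lib.LargeNine45.Even.Std

/-!
Every coset of the standard normaliser occurs, and every group is standard (helper45).
-/

set_option autoImplicit false

namespace Cfsg.Agent.Lib.LargeNine45.Even

open Equiv

set_option synthInstance.maxSize 2000

theorem exists_sends : ∀ b : P6, b * b = 1 → b ≠ 1 → Perm.sign b = 1 →
    b * (swap 0 2 * swap 1 3) = swap 0 2 * swap 1 3 * b → b ≠ swap 0 2 * swap 1 3 →
    ∀ t : P6, t * t = 1 → Perm.sign t = -1 → t * (swap 0 2 * swap 1 3) = swap 0 2 * swap 1 3 * t →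
      t * b = b * t →
      ∃ x : P6, SendsTo stdI x (swap 0 2 * swap 1 3) b t ∨ SendsTo stdII x (swap 0 2 * swap 1 3) b t := by
  decide +kernel

end Cfsg.Agent.Lib.LargeNine45.Even
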