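import Cfsg.Agent.Lib.LargeNine45.Even.Fix
import Cfsg.Agent.Lib.LargeNine45.Even.Normal

/-!
Every conjugate of `z` in `X` is conjugate to one in standard position (helper45).
-/

set_option autoImplicit false

namespace Cfsg.Agent.Lib.LargeNine45.Even

open Equiv LargeExtra
open scoped commutatorElement

theorem swap_sign : Perm.sign (swap (0 : Fin 3) 1) = -1 := by decide +kernel

variable {H : Type*} [Group H] [Finite H] {X : Subgroup H} {z : H} {φ : H →* T}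
variable [(Subgroup.zpowers z).Normal]

local notation "π" => pz z

variable {C : H → Prop} {S : H → Subgroup H} {v : H} {s : P3}

/-- Generators of the image of `S v`. -/
theorem exists_gens (F : Fam X z C S) (B : Base X z φ) (hv : C v) (hax : IsAxis φ S v s)
    (hr : ∀ h, Perm.sign (φ h).1 = Perm.sign (φ h).2) :
    ∃ a b t : P6, ((1, a) : T) ∈ (S v).map φ ∧ ((1, b) : T) ∈ (S v).map φ ∧
      ((s, t) : T) ∈ (S v).map φ ∧ a ≠ 1 ∧ b ≠ 1 ∧ a ≠ b := by
  set R := (S v).map φ with hR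
  have h8 : Nat.card R = 8 := card_img_eight F B hv hax hr
  set R0 := R ⊓ (MonoidHom.fst P3 P6).ker with hR0
  have h4 : 4 ≤ Nat.card R0 := by
    have := card_le_two_mul (M := R) (P := R0) inf_le_left fun x hx hx0 y hy hy0 => by
      have ex : x.1 = s := (hax.2.2.1 x hx).resolve_left fun e => hx0 ⟨hx, e⟩
      have ey : y.1 = s := (hax.2.2.1 y hy).resolve_left fun e => hy0 ⟨hy, e⟩
      exact Subgroup.mem_inf.2 ⟨mul_mem (inv_mem hx) hy, by show x.1⁻¹ * y.1 = 1; rw [ex, ey, inv_mul_cancel]⟩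
    omega
  have key : ∀ W : Set T, W.ncard ≤ 3 → ∃ r ∈ R0, r ∉ W := fun W hW => by
    by_contra hall
    push Not at hall
    have h1 := Set.ncard_le_ncard (show (R0 : Set T) ⊆ W from hall) (Set.toFinite _)
    rw [← Nat.card_coe_set_eq] at h1
    have h2 : Nat.card ↥R0 ≤ W.ncard := h1
    omega
  obtain ⟨ra, hra, hra1⟩ := key {1} (by simp)
  obtain ⟨rb, hrb, hrb1⟩ := key {1, ra} ((Set.ncard_insert_le _ _).trans (by simp))
  obtain ⟨rt, hrt, hrt1⟩ := hax.2.2.2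
  simp only [Set.mem_insert_iff, Set.mem_singleton_iff, not_or] at hra1 hrb1
  have ea : ra = (1, ra.2) := Prod.ext hra.2 rfl
  have eb : rb = (1, rb.2) := Prod.ext hrb.2 rfl
  have et : rt = (s, rt.2) := Prod.ext hrt1 rfl
  refine ⟨ra.2, rb.2, rt.2, ea ▸ hra.1, eb ▸ hrb.1, et ▸ hrt, fun e => hra1 ?_, fun e => hrb1.1 ?_,
    fun e => hrb1.2 ?_⟩
  · rw [ea, e]; rfl
  · rw [eb, e]; rfl
  · rw [ea, eb, e]

/-- An element mapping the generators into the image of `S v` fixes `v`. -/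
theorem fix_of_gens (F : Fam X z C S) (B : Base X z φ) (hv : C v) (hax : IsAxis φ S v s)
    (hr : ∀ h, Perm.sign (φ h).1 = Perm.sign (φ h).2) {a b t : P6}
    (ha : ((1, a) : T) ∈ (S v).map φ) (hb : ((1, b) : T) ∈ (S v).map φ)
    (ht : ((s, t) : T) ∈ (S v).map φ) (ha1 : a ≠ 1) (hb1 : b ≠ 1) (hab : a ≠ b) {h : H}
    (ca : φ h * (1, a) * (φ h)⁻¹ ∈ (S v).map φ) (cb : φ h * (1, b) * (φ h)⁻¹ ∈ (S v).map φ)
    (ct : φ h * (s, t) * (φ h)⁻¹ ∈ (S v).map φ) : π (h * v * h⁻¹) = π v := by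
  set R := (S v).map φ with hR
  have h8 : Nat.card R = 8 := card_img_eight F B hv hax hr
  set K := R ⊓ R.comap (MulAut.conj (φ h)).toMonoidHom with hK
  have hall : R ≤ K := by
    refine (Subgroup.eq_of_le_of_card_ge inf_le_left ?_).ge
    have ha2 : a * a = 1 := congrArg Prod.snd ((F.pair v hv).img_sq B ha)
    have mK : ∀ r, r ∈ R → φ h * r * (φ h)⁻¹ ∈ R → r ∈ K := fun r h1 h2 => ⟨h1, h2⟩
    let g : Fin 5 → K := ![1, ⟨_, mK _ ha ca⟩, ⟨_, mK _ hb cb⟩,
      ⟨_, mul_mem (mK _ ha ca) (mK _ hb cb)⟩, ⟨_, mK _ ht ct⟩]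
    have n1 : a * b ≠ 1 := fun e => hab (by
      rw [← inv_eq_of_mul_eq_one_right e, inv_eq_of_mul_eq_one_right ha2])
    have n2 : a * b ≠ a := fun e => hb1 (mul_eq_left.1 e)
    have n3 : a * b ≠ b := fun e => ha1 (mul_eq_right.1 e)
    have hg : Function.Injective g := by
      intro i j e
      have e1 := congrArg (fun r : K => (r : T).1) e
      have e2 := congrArg (fun r : K => (r : T).2) e
      fin_cases i <;> fin_cases j <;> simp [g] at e1 e2 ⊢
      all_goals first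
        | exact hax.2.1 e1 | exact hax.2.1 e1.symm
        | exact ha1 e2 | exact ha1 e2.symm | exact hb1 e2 | exact hb1 e2.symm
        | exact hab e2 | exact hab e2.symm | exact n1 e2 | exact n1 e2.symm
        | exact n2 e2 | exact n2 e2.symm | exact n3 e2 | exact n3 e2.symm
    have h5 := Nat.card_le_card_of_injective g hg
    rw [Nat.card_fin] at h5
    have hd : Nat.card K ∣ Nat.card R := Subgroup.card_dvd_of_le inf_le_left
    rw [h8, show 8 = 2 ^ 3 by norm_num] at hd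
    obtain ⟨k, hk, e⟩ := (Nat.dvd_prime_pow Nat.prime_two).1 hd
    rw [e] at h5
    rw [h8, e]
    interval_cases k <;> omega
  have hP := F.pair v hv
  have h32 : Nat.card ↥(X ⊓ S v) = 32 := by
    have := hP.card_img B; rw [← hR, h8] at this; omega
  refine (shared B hP (F.pair _ (F.conj h v hv)) ?_ h32).symm
  refine (Subgroup.eq_of_le_of_card_ge ?_ ?_).symm
  · rintro _ ⟨t', ht', rfl⟩
    have ht0 := F.equiv h⁻¹ _ (F.conj h v hv) t' ht'
    rw [show h⁻¹ * (h * v * h⁻¹) * h⁻¹⁻¹ = v by group] at ht0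
    have : φ h * φ (h⁻¹ * t' * h⁻¹⁻¹) * (φ h)⁻¹ ∈ R := (hall (Subgroup.mem_map_of_mem φ ht0)).2
    convert this using 1
    simp only [map_mul, map_inv]; group
  · obtain ⟨s', hs'⟩ := F.exists_axis B (F.conj h v hv)
    rw [card_img_eight F B hv hax hr, card_img_eight F B (F.conj h v hv) hs' hr]

/-- Two distinct elements of the four-group generate it. -/
theorem gen_F {D : Std} (ha : D.a * D.a = 1) (hb : D.b * D.b = 1) (hab : D.a * D.b = D.b * D.a)
    (M : Subgroup P6) {p q : P6} (hp : p ∈ D.F) (hq : q ∈ D.F) (hne : p ≠ q) (hpM : p ∈ M)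
    (hqM : q ∈ M) : D.a ∈ M ∧ D.b ∈ M := by
  have h := mul_mem hpM hqM
  have h' := mul_mem hqM hpM
  have e1 : D.a * (D.a * D.b) = D.b := by rw [← mul_assoc, ha, one_mul]
  have e2 : D.a * D.b * D.b = D.a := by rw [mul_assoc, hb, mul_one]
  simp only [Std.F, List.mem_cons, List.not_mem_nil, or_false] at hp hq
  rcases hp with rfl | rfl | rfl <;> rcases hq with rfl | rfl | rfl
  all_goals first
    | exact absurd rfl hne
    | exact ⟨hpM, hqM⟩
    | exact ⟨hqM, hpM⟩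
    | exact ⟨hpM, e1 ▸ h⟩
    | exact ⟨hqM, e1 ▸ h'⟩
    | exact ⟨e2 ▸ h', hpM⟩
    | exact ⟨e2 ▸ h, hqM⟩

/-- Every member of the family is conjugate to one in standard position. -/
theorem exists_evenCtx (F : Fam X z C S) (B : Base X z φ) (hv : C v)
    (hr : ∀ h, Perm.sign (φ h).1 = Perm.sign (φ h).2)
    (hsurj : ∀ r : T, Perm.sign r.1 = Perm.sign r.2 → ∃ h, φ h = r)
    (hI : stdI.Basic) (hII : stdII.Basic) :
    ∃ h D, (D = stdI ∨ D = stdII) ∧ ∃ s e G0 c, EvenCtx X z φ C S (h * v * h⁻¹) s D e G0 c := by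
  obtain ⟨s0, hax0⟩ := F.exists_axis B hv
  obtain ⟨a, b, t, ha, hb, ht, ha1, hb1, hab⟩ := exists_gens F B hv hax0 hr
  have P := F.pair v hv
  have sgn : ∀ {r : T}, r ∈ (S v).map φ → Perm.sign r.1 = Perm.sign r.2 := by
    rintro _ ⟨f, -, rfl⟩; exact hr f
  have sa : Perm.sign a = 1 := (sgn ha).symm.trans (map_one _)
  have sb : Perm.sign b = 1 := (sgn hb).symm.trans (map_one _)
  have st : Perm.sign t = -1 := (sgn ht).symm.trans (sign_invol_three s0 hax0.1 hax0.2.1)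
  have hb2 : b * b = 1 := congrArg Prod.snd (P.img_sq B hb)
  have ht2 : t * t = 1 := congrArg Prod.snd (P.img_sq B ht)
  obtain ⟨q, hq⟩ := exists_conj_base a sa (congrArg Prod.snd (P.img_sq B ha)) ha1
  have hcj : ∀ {f g : P6}, Commute f g → Commute (q * f * q⁻¹) (q * g * q⁻¹) := fun h =>
    (Commute.conj_iff q).2 h
  obtain ⟨x, hx⟩ := exists_sends (q * b * q⁻¹)
    (by rw [show q * b * q⁻¹ * (q * b * q⁻¹) = q * (b * b) * q⁻¹ by group, hb2]; simp)
    (fun e => hb1 (by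
      calc b = q⁻¹ * (q * b * q⁻¹) * q := by group
        _ = 1 := by rw [e]; group))
    (by simp [sb]) (hq ▸ (hcj (f := b) (g := a) (congrArg Prod.snd (P.img_comm B hb ha).eq)).eq)
    (fun e => hab (mul_left_cancel (mul_right_cancel (hq.trans e.symm))))
    (q * t * q⁻¹)
    (by rw [show q * t * q⁻¹ * (q * t * q⁻¹) = q * (t * t) * q⁻¹ by group, ht2]; simp)
    (by simp [st]) (hq ▸ (hcj (f := t) (g := a) (congrArg Prod.snd (P.img_comm B ht ha).eq)).eq)
    (hcj (f := t) (g := b) (congrArg Prod.snd (P.img_comm B ht hb).eq)).eq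
  obtain ⟨D, hD, hok, hsend⟩ : ∃ D : Std, (D = stdI ∨ D = stdII) ∧ D.Basic ∧
      SendsTo D x (swap 0 2 * swap 1 3) (q * b * q⁻¹) (q * t * q⁻¹) := by
    rcases hx with hx | hx
    exacts [⟨_, Or.inl rfl, hI, hx⟩, ⟨_, Or.inr rfl, hII, hx⟩]
  obtain ⟨y, hy⟩ : ∃ y, y = x * q := ⟨_, rfl⟩
  have hsend' : y * a * y⁻¹ ∈ D.F ∧ y * b * y⁻¹ ∈ D.F ∧ y * t * y⁻¹ ∈ D.O := by
    have e : ∀ f : P6, y * f * y⁻¹ = x * (q * f * q⁻¹) * x⁻¹ := fun f => by rw [hy]; group
    rw [e, e, e, hq]; exact hsend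
  obtain ⟨r3, hr3⟩ : ∃ r : P3, Perm.sign r = Perm.sign y := by
    rcases Int.units_eq_one_or (Perm.sign y) with e | e
    exacts [⟨1, by rw [map_one, e]⟩, ⟨swap 0 1, by rw [swap_sign, e]⟩]
  obtain ⟨h, hh⟩ := hsurj (r3, y) hr3
  set v' := h * v * h⁻¹ with hv'
  have hv'C : C v' := F.conj h v hv
  have P' := F.pair v' hv'C
  have tr : ∀ {r : T}, r ∈ (S v).map φ → (r3, y) * r * (r3, y)⁻¹ ∈ (S v').map φ := by
    rintro _ ⟨f, hf, rfl⟩
    exact ⟨h * f * h⁻¹, F.equiv h v hv f hf, by rw [map_mul, map_mul, map_inv, hh]⟩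
  obtain ⟨s, hax⟩ := F.exists_axis B hv'C
  have hs : r3 * s0 * r3⁻¹ = s := (hax.2.2.1 _ (tr ht)).resolve_left fun e => hax0.2.1 (by
    simp only [Prod.fst_mul, Prod.fst_inv] at e
    exact mul_eq_left.1 (mul_inv_eq_one.1 e))
  let M : Subgroup P6 := ((S v').map φ).comap (MonoidHom.inr P3 P6)
  obtain ⟨hMa, hMb⟩ := gen_F hok.a2 hok.b2 hok.cab M hsend'.1 hsend'.2.1
    (fun e => hab (mul_left_cancel (mul_right_cancel e)))
    (show ((1, y * a * y⁻¹) : T) ∈ (S v').map φ by simpa using tr ha)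
    (show ((1, y * b * y⁻¹) : T) ∈ (S v').map φ by simpa using tr hb)
  have mem_a : ((1, D.a) : T) ∈ (S v').map φ := hMa
  have mem_b : ((1, D.b) : T) ∈ (S v').map φ := hMb
  have hto : ((s, y * t * y⁻¹) : T) ∈ (S v').map φ := by
    have := tr ht
    rwa [show ((r3, y) : T) * (s0, t) * (r3, y)⁻¹ = (s, y * t * y⁻¹) from Prod.ext hs rfl] at this
  have mem_t : ((s, D.t) : T) ∈ (S v').map φ := by
    obtain ⟨o, ho, ho'⟩ : ∃ o ∈ D.O, y * t * y⁻¹ = o := ⟨_, hsend'.2.2, rfl⟩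
    rw [ho'] at hto
    simp only [Std.O, List.mem_cons, List.not_mem_nil, or_false] at ho
    rcases ho with rfl | rfl | rfl | rfl
    · exact hto
    · simpa using mul_mem hto (inv_mem mem_a)
    · simpa using mul_mem hto (inv_mem mem_b)
    · simpa [mul_assoc] using mul_mem (mul_mem hto (inv_mem mem_b)) (inv_mem mem_a)
  obtain ⟨h0, hh0⟩ := B.surjA D.d hok.sd
  have hfix : π (h0 * v' * h0⁻¹) = π v' := by
    refine fix_of_gens F B hv'C hax hr mem_a mem_b mem_t hok.a1 hok.b1 hok.ab ?_ ?_ ?_ <;> rw [hh0]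
    · rw [show ((1, D.d) : T) * (1, D.a) * (1, D.d)⁻¹ = (1, D.b) from Prod.ext (by simp) hok.da]
      exact mem_b
    · rw [show ((1, D.d) : T) * (1, D.b) * (1, D.d)⁻¹ = (1, D.a * D.b) from
        Prod.ext (by simp) hok.db]
      simpa using mul_mem mem_a mem_b
    · rw [show ((1, D.d) : T) * (s, D.t) * (1, D.d)⁻¹ = (s, D.t) from Prod.ext (by simp) hok.dt]
      exact mem_t
  obtain ⟨h', hφ', hcomm⟩ := B.exists_fix P'.vX P'.pv hfix
  rw [hh0] at hφ'
  have h3 : h' ^ 3 ∈ X := B.mem_iff.1 (by rw [map_pow, hφ', Prod.pow_mk, hok.d3, one_pow]; rfl)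
  obtain ⟨G0, hG0⟩ := B.surjA D.g hok.sg
  obtain ⟨p, hp3, hp1⟩ := three_exists
  obtain ⟨c, hc⟩ := B.surjC p hp3
  refine ⟨h, D, hD, s, h' ^ 1024, G0, c,
    { base := B, fam := F, hv := hv'C, hax := hax, ok := hok, rng := hr, mem_a := mem_a, mem_b := mem_b,
      mem_t := mem_t, hG := hG0, hc := ⟨p, hc, hp3, hp1⟩, hev := ?_, he := ?_, he3 := ?_ }⟩
  · rw [map_pow, hφ', Prod.pow_mk, one_pow, pow_eq_pow_mod 1024 hok.d3]
    norm_num
  · have h1 : (⟨h' ^ 3, h3⟩ : X) ^ Nat.card X = 1 := pow_card_eq_one'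
    rw [B.card] at h1
    have h2 := congrArg Subtype.val h1
    simp only [SubmonoidClass.coe_pow, Subgroup.coe_one] at h2
    calc (h' ^ 1024) ^ 3 = ((h' ^ 3) ^ 512) ^ 2 := by rw [← pow_mul, ← pow_mul, ← pow_mul]
      _ = 1 := by rw [h2, one_pow]
  · exact Commute.pow_left (conj_eq_iff_comm.1 hcomm) _

end Cfsg.Agent.Lib.LargeNine45.Even
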