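import Cfsg.Agent.Lib.LargeNine45.Even.Std

/-!
Checks on the standard data (helper45).
-/

set_option autoImplicit false

namespace Cfsg.Agent.Lib.LargeNine45.Even

open Equiv

set_option synthInstance.maxSize 2000

theorem stdI_basic : stdI.Basic where
  sd := by decide +kernel
  sd' := by decide +kernel
  sa := by decide +kernel
  sb := by decide +kernel
  sg := by decide +kernel
  st := by decide +kernel
  d3 := by decide +kernel
  d1 := by decide +kernel
  a1 := by decide +kernel
  b1 := by decide +kernel
  ab := by decide +kernel
  a2 := by decide +kernel
  b2 := by decide +kernel
  cab := by decide +kernel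
  cdd := by decide +kernel
  da := by decide +kernel
  db := by decide +kernel
  dt := by decide +kernel
  gd := by decide +kernel
  gd' := by decide +kernel
  move1 := by decide +kernel
  move2 := by decide +kernel
  q_base := by decide +kernel
  q_even := by decide +kernel
  q_symm := by decide +kernel

theorem stdI_triangles : stdI.Triangles := by unfold Std.Triangles; decide +kernel

theorem stdI_matching : stdI.Matching stdI.d stdI.σd ∧ stdI.Matching stdI.d' stdI.σd' := by
  unfold Std.Matching; decide +kernel

theorem stdII_basic : stdII.Basic where
  sd := by decide +kernel
  sd' := by decide +kernel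
  sa := by decide +kernel
  sb := by decide +kernel
  sg := by decide +kernel
  st := by decide +kernel
  d3 := by decide +kernel
  d1 := by decide +kernel
  a1 := by decide +kernel
  b1 := by decide +kernel
  ab := by decide +kernel
  a2 := by decide +kernel
  b2 := by decide +kernel
  cab := by decide +kernel
  cdd := by decide +kernel
  da := by decide +kernel
  db := by decide +kernel
  dt := by decide +kernel
  gd := by decide +kernel
  gd' := by decide +kernel
  move1 := by decide +kernel
  move2 := by decide +kernel
  q_base := by decide +kernel
  q_even := by decide +kernel
  q_symm := by decide +kernel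

theorem stdII_triangles : stdII.Triangles := by unfold Std.Triangles; decide +kernel

theorem stdII_matching : stdII.Matching stdII.d stdII.σd ∧ stdII.Matching stdII.d' stdII.σd' := by
  unfold Std.Matching; decide +kernel

/-- `(0 1 2)` is a mixed element for type I. -/
theorem stdII_d_mixed : stdI.d * stdI.d' ^ 2 = stdII.d⁻¹ := by decide +kernel

end Cfsg.Agent.Lib.LargeNine45.Even
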