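import Cfsg.Agent.Lib.LargeNine45.Even.Orbit
import Cfsg.Agent.Lib.LargeNine45.Even.Normalise
import Cfsg.Agent.Lib.LargeNine45.Even.StdOk
import Cfsg.Agent.Lib.LargeNine45.Even.CoverI
import Cfsg.Agent.Lib.LargeNine45.Even.CoverII
import Cfsg.Agent.Lib.LargeNine45.Final

/-!
No simple group has an involution centraliser `2^{1+8}.(3 × A₆).2` (helper45).
-/

set_option autoImplicit false

namespace Cfsg.Agent.Lib.LargeNine45.Even

open Equiv LargeExtra
open scoped commutatorElement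

theorem stdI_orbital : stdI.Orbital := ⟨stdI_triangles, stdI_matching.1, stdI_matching.2, stdI_cover⟩

theorem stdII_orbital : stdII.Orbital :=
  ⟨stdII_triangles, stdII_matching.1, stdII_matching.2, stdII_cover⟩

variable {H : Type*} [Group H] [Finite H] {X : Subgroup H} {z : H} {φ : H →* T}
variable [(Subgroup.zpowers z).Normal]

local notation "π" => pz z

variable {C : H → Prop} {S : H → Subgroup H} {v v' : H} {s s' : P3} {D : Std} {e G0 c e' G0' c' : H}

/-- Two elements in standard position of the same type are conjugate. -/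
theorem EvenCtx.conj_of_same (K : EvenCtx X z φ C S v s D e G0 c)
    (K' : EvenCtx X z φ C S v' s' D e' G0' c') : ∃ h, h * v * h⁻¹ = v' := by
  obtain ⟨d, hd3, hd⟩ := conj_invol_even s s' K.hax.1 K.hax.2.1 K'.hax.1 K'.hax.2.1
  obtain ⟨D1, hD1⟩ := K.base.surjC d hd3
  have hv1 : C (D1 * v * D1⁻¹) := K.fam.conj D1 v K.hv
  have tr : ∀ {a : P3} {x : P6}, ((a, x) : T) ∈ (S v).map φ →
      ((d * a * d⁻¹, x) : T) ∈ (S (D1 * v * D1⁻¹)).map φ := by
    rintro a x ⟨f, hf, e⟩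
    exact ⟨D1 * f * D1⁻¹, K.fam.equiv D1 v K.hv f hf,
      by rw [map_mul, map_mul, map_inv, hD1, e]; exact Prod.ext rfl (by simp)⟩
  have heq : (S v').map φ = (S (D1 * v * D1⁻¹)).map φ := by
    refine Subgroup.eq_of_le_of_card_ge (fun r hr => ?_) ?_
    · obtain ⟨r1, r2⟩ := r
      rcases K'.img_cases hr with ⟨h1, h2⟩ | ⟨h1, h2⟩ <;> dsimp only at h1 h2 <;> subst h1
      · rcases h2 with rfl | h2
        · exact one_mem _
        · simpa using tr (K.mem_F h2)
      · simpa [hd] using tr (K.mem_O h2)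
    · obtain ⟨s1, hs1⟩ := K.fam.exists_axis K.base hv1
      rw [card_img_eight K.fam K.base hv1 hs1 K.rng, K'.card_R]
  have hpi : π v' = π (D1 * v * D1⁻¹) :=
    shared K.base K'.pair (K.fam.pair _ hv1) heq K'.card_I
  obtain ⟨h, -, hh⟩ := K.base.exists_fix K'.pair.vX K'.pair.pv hpi.symm
  exact ⟨h, hh⟩

/-- Both types do not occur together. -/
theorem EvenCtx.no_mixed (K : EvenCtx X z φ C S v s stdI e G0 c)
    (K' : EvenCtx X z φ C S v' s' stdII e' G0' c') : False := by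
  have hφ : φ e'⁻¹ = (1, stdI.d * stdI.d' ^ 2) := by
    rw [map_inv, K'.he, stdII_d_mixed]; exact Prod.ext (by simp) rfl
  have hx : v' ∈ Fx z X e'⁻¹ := by rw [K.base.Fx_inv]; exact K'.v_mem_Fx
  exact K'.pair.pv (K.mixed hφ hx)

/-- There is a conjugate with a frame. -/
theorem exists_frame (F : Fam X z C S) (B : Base X z φ)
    (hr : ∀ h, Perm.sign (φ h).1 = Perm.sign (φ h).2)
    (hsurj : ∀ r : T, Perm.sign r.1 = Perm.sign r.2 → ∃ h, φ h = r) (hv : C v) :
    ∃ (u : H) (s : P3) (A : Subgroup H) (D : H), AxisFrame X z φ C S u s A D := by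
  have hN : ∀ {w : H}, C w → ∃ h D, (D = stdI ∨ D = stdII) ∧
      ∃ s e G0 c, EvenCtx X z φ C S (h * w * h⁻¹) s D e G0 c := fun hw =>
    exists_evenCtx F B hw hr hsurj stdI_basic stdII_basic
  obtain ⟨D, hD, u, s, e, G0, c, K, hall⟩ : ∃ D, D.Orbital ∧
      ∃ u s e G0 c, EvenCtx X z φ C S u s D e G0 c ∧ ∀ w, C w →
        ∃ h s' e' G0' c', EvenCtx X z φ C S (h * w * h⁻¹) s' D e' G0' c' := by
    by_cases h1 : ∃ u s e G0 c, EvenCtx X z φ C S u s stdI e G0 c
    · obtain ⟨u, s, e, G0, c, K⟩ := h1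
      refine ⟨stdI, stdI_orbital, u, s, e, G0, c, K, fun w hw => ?_⟩
      obtain ⟨h, D, hD, s', e', G0', c', K'⟩ := hN hw
      rcases hD with rfl | rfl
      exacts [⟨h, s', e', G0', c', K'⟩, (K.no_mixed K').elim]
    · have key : ∀ w, C w → ∃ h s' e' G0' c', EvenCtx X z φ C S (h * w * h⁻¹) s' stdII e' G0' c' := by
        intro w hw
        obtain ⟨h, D, hD, s', e', G0', c', K'⟩ := hN hw
        rcases hD with rfl | rfl
        exacts [(h1 ⟨_, s', e', G0', c', K'⟩).elim, ⟨h, s', e', G0', c', K'⟩]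
      obtain ⟨h, s', e', G0', c', K'⟩ := key v hv
      exact ⟨stdII, stdII_orbital, _, s', e', G0', c', K', key⟩
  refine ⟨u, s, K.A, c, K.toFrame hD fun w hw => ?_⟩
  obtain ⟨h, s', e', G0', c', K'⟩ := hall w hw
  obtain ⟨h1, hh1⟩ := K.conj_of_same K'
  refine ⟨h⁻¹ * h1, ?_⟩
  calc h⁻¹ * h1 * u * (h⁻¹ * h1)⁻¹ = h⁻¹ * (h1 * u * h1⁻¹) * h := by group
    _ = w := by rw [hh1]; group

/-- The main theorem for `(3 × A₆).2`. -/
theorem false_of_even {G : Type*} [Group G] [Finite G] [IsSimpleGroup G] {Q : G → Subgroup G} {z : G}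
    {φ : ↥(Subgroup.centralizer ({z} : Set G)) →* T} (M : Glob Q z φ)
    (hr : ∀ h, Perm.sign (φ h).1 = Perm.sign (φ h).2)
    (hsurj : ∀ r : T, Perm.sign r.1 = Perm.sign r.2 → ∃ h, φ h = r) : False := by
  obtain ⟨c, hc⟩ := hsurj (swap 0 1, swap 0 1) (by decide +kernel)
  obtain ⟨v, hv⟩ := M.exists_mem ⟨c, by rw [hc]; exact swap_sign⟩
  obtain ⟨u, s, A, D, K⟩ := exists_frame M.fam M.base hr hsurj hv
  exact M.false_of_frame K

end Cfsg.Agent.Lib.LargeNine45.Even
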