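import Cfsg.Agent.Lib.LargeNine45.Even.Kill
import Cfsg.Agent.Lib.LargeNine45.Frame

/-!
The orbit of `v` under the lifts of `1 × A₆` is a copy of the fifteen duads inside a subgroup `A` of
order `2⁵` of `X` (helper45).
-/

set_option autoImplicit false

namespace Cfsg.Agent.Lib.LargeNine45.Even

open Equiv LargeExtra
open scoped commutatorElement

/-- The checks on the standard data. -/
structure Std.Orbital (D : Std) : Prop where
  tri : D.Triangles
  md : D.Matching D.d D.σd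
  md' : D.Matching D.d' D.σd'
  cover : D.Cover

theorem exists_two_others : ∀ i j k l : Fin 6, i ≠ j → i ≠ k → i ≠ l → j ≠ k → j ≠ l → k ≠ l →
    ∃ m n : Fin 6, Function.Injective ![i, j, k, l, m, n] := by
  unfold Function.Injective
  decide +kernel

theorem card_duads : ((Finset.univ : Finset (Fin 6 × Fin 6)).filter fun p => p.1 < p.2).card = 15 := by
  decide +kernel

theorem prod_six {G : Type*} [Group G] (M : Subgroup G) (hc : ∀ a ∈ M, ∀ b ∈ M, Commute a b)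
    (f : Fin 6 → G) (hf : ∀ i, f i ∈ M) (g : Fin 6 → Fin 6) (hg : Function.Injective g) :
    f (g 0) * f (g 1) * f (g 2) * f (g 3) * f (g 4) * f (g 5) = f 0 * f 1 * f 2 * f 3 * f 4 * f 5 := by
  letI : CommGroup ↥M :=
    { (inferInstance : Group ↥M) with mul_comm := fun a b => Subtype.ext (hc a a.2 b b.2).eq }
  have h := Equiv.prod_comp (Equiv.ofBijective g (Finite.injective_iff_bijective.1 hg))
    (fun i => (⟨f i, hf i⟩ : ↥M))
  rw [Fin.prod_univ_six, Fin.prod_univ_six] at h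
  exact congrArg Subtype.val h

variable {H : Type*} [Group H] [Finite H] {X : Subgroup H} {z : H} {φ : H →* T}
variable [(Subgroup.zpowers z).Normal]

local notation "π" => pz z

variable {C : H → Prop} {S : H → Subgroup H} {v : H} {s : P3} {D : Std} {e G0 c : H}

namespace EvenCtx

theorem exists_lft (K : EvenCtx X z φ C S v s D e G0 c) (x : P6) :
    ∃ l, Perm.sign x = 1 → φ l = (1, x) := by
  by_cases hx : Perm.sign x = 1
  · obtain ⟨l, hl⟩ := K.base.surjA x hx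
    exact ⟨l, fun _ => hl⟩
  · exact ⟨1, fun h => absurd h hx⟩

/-- The image of `v` under a lift of `(1, x)`. -/
noncomputable def orb (K : EvenCtx X z φ C S v s D e G0 c) (x : P6) : H ⧸ Subgroup.zpowers z :=
  π ((K.exists_lft x).choose * v * (K.exists_lft x).choose⁻¹)

/-- The point of the orbit belonging to a duad. -/
noncomputable def w (K : EvenCtx X z φ C S v s D e G0 c) (i j : Fin 6) : H ⧸ Subgroup.zpowers z :=
  K.orb (D.q i j)

/-- The point of the orbit belonging to a duad at `0`. -/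
noncomputable def pt (K : EvenCtx X z φ C S v s D e G0 c) (i : Fin 6) : H ⧸ Subgroup.zpowers z :=
  if i = 0 then 1 else K.w 0 i

/-- The span of the orbit. -/
noncomputable def Y (K : EvenCtx X z φ C S v s D e G0 c) : Subgroup (H ⧸ Subgroup.zpowers z) :=
  Subgroup.closure {a | ∃ i j : Fin 6, i < j ∧ a = K.w i j}

/-- The subgroup `A`. -/
noncomputable def A (K : EvenCtx X z φ C S v s D e G0 c) : Subgroup H := X ⊓ K.Y.comap π

theorem orb_eq (K : EvenCtx X z φ C S v s D e G0 c) {x : P6} (hx : Perm.sign x = 1) {l : H}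
    (hl : φ l = (1, x)) : π (l * v * l⁻¹) = K.orb x :=
  K.base.pz_conj_congr (hl.trans ((K.exists_lft x).choose_spec hx).symm) K.pair.vX

theorem orb_one (K : EvenCtx X z φ C S v s D e G0 c) : K.orb 1 = π v := by
  rw [← K.orb_eq (l := 1) (map_one _) (by rw [map_one]; rfl)]; simp

theorem orb_mem (K : EvenCtx X z φ C S v s D e G0 c) (x : P6) : K.orb x ∈ X.map π :=
  Subgroup.mem_map_of_mem _ (K.base.conj_mem _ K.pair.vX)

theorem orb_ne (K : EvenCtx X z φ C S v s D e G0 c) (x : P6) : K.orb x ≠ 1 :=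
  (K.fam.pair _ (K.fam.conj _ v K.hv)).pv

theorem orb_comm (K : EvenCtx X z φ C S v s D e G0 c) :
    ∀ a ∈ X.map π, ∀ b ∈ X.map π, Commute a b := by
  rintro _ ⟨a, ha, rfl⟩ _ ⟨b, hb, rfl⟩
  exact K.base.pz_comm ha hb

theorem sq_map (K : EvenCtx X z φ C S v s D e G0 c) :
    ∀ a ∈ X.map π, a * a = 1 := by
  rintro _ ⟨a, ha, rfl⟩
  exact K.base.pz_sq ha

theorem orb_mul (K : EvenCtx X z φ C S v s D e G0 c) {x y : P6} (hx : Perm.sign x = 1)
    (hy : Perm.sign y = 1) {l : H} (hl : φ l = (1, x)) : π l * K.orb y * (π l)⁻¹ = K.orb (x * y) := by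
  obtain ⟨m, hm⟩ := K.base.surjA y hy
  rw [← K.orb_eq hy hm, ← K.orb_eq (x := x * y) (l := l * m) (by simp [hx, hy])
    (by rw [map_mul, hl, hm]; exact Prod.ext (by simp) rfl)]
  simp only [map_mul, map_inv]; group

theorem orb_congr (K : EvenCtx X z φ C S v s D e G0 c) {x y : P6} (hx : Perm.sign x = 1)
    (hy : Perm.sign y = 1) (h : D.InN (y⁻¹ * x)) : K.orb x = K.orb y := by
  obtain ⟨m, hm⟩ := K.base.surjA y hy
  obtain ⟨l, hl⟩ := K.base.surjA x hx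
  have hfix := K.fix_of_InN (h := m⁻¹ * l)
    (by rw [map_mul, map_inv, hm, hl]; exact Prod.ext (by simp) rfl) h
  rw [← K.orb_eq hy hm, ← K.orb_eq hx hl]
  calc π (l * v * l⁻¹) = π m * π (m⁻¹ * l * v * (m⁻¹ * l)⁻¹) * (π m)⁻¹ := by
        simp only [map_mul, map_inv]; group
    _ = _ := by rw [hfix]; simp only [map_mul, map_inv]

theorem inN_d (K : EvenCtx X z φ C S v s D e G0 c) : D.InN D.d :=
  ⟨K.ok.sd, by rw [K.ok.da]; simp [Std.F], by rw [K.ok.db]; simp [Std.F],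
    by rw [K.ok.dt]; simp [Std.O]⟩

theorem d'3 (K : EvenCtx X z φ C S v s D e G0 c) : D.d' ^ 3 = 1 := by
  rw [← K.ok.gd, conj_pow, K.ok.d3, mul_one, mul_inv_cancel]

theorem orbit_kill (K : EvenCtx X z φ C S v s D e G0 c) :
    π v * K.orb D.d' * K.orb (D.d' ^ 2) = 1 := by
  have hm : π v * K.orb D.d' * K.orb (D.d' ^ 2) ∈ X.map π :=
    mul_mem (mul_mem (Subgroup.mem_map_of_mem _ K.pair.vX) (K.orb_mem _)) (K.orb_mem _)
  obtain ⟨x, hx, hxe⟩ := hm
  rw [← hxe]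
  have s2 : Perm.sign (D.d' ^ 2) = 1 := by rw [map_pow, K.ok.sd', one_pow]
  have hv' : π v = K.orb 1 := K.orb_one.symm
  have cd : ∀ y : P6, Perm.sign y = 1 → D.d * y = y * D.d → π e * K.orb y * (π e)⁻¹ = K.orb y := by
    intro y hy hcy
    rw [K.orb_mul K.ok.sd hy K.he]
    exact K.orb_congr (by simp [K.ok.sd, hy]) hy (by rw [hcy, inv_mul_cancel_left]; exact K.inN_d)
  refine K.kill (mem_Fx.2 ⟨hx, ?_⟩) (mem_Fx.2 ⟨hx, ?_⟩)
  · simp only [map_mul, map_inv]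
    rw [hxe, hv']
    have h0 := cd 1 (map_one _) (by simp)
    have h1 := cd D.d' K.ok.sd' K.ok.cdd
    have h2 := cd (D.d' ^ 2) s2 ((show Commute D.d D.d' from K.ok.cdd).pow_right 2).eq
    calc π e * (K.orb 1 * K.orb D.d' * K.orb (D.d' ^ 2)) * (π e)⁻¹
        = π e * K.orb 1 * (π e)⁻¹ * (π e * K.orb D.d' * (π e)⁻¹) *
          (π e * K.orb (D.d' ^ 2) * (π e)⁻¹) := by group
      _ = _ := by rw [h0, h1, h2]
  · simp only [map_mul, map_inv]
    rw [hxe, hv']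
    have h0 : π K.e' * K.orb 1 * (π K.e')⁻¹ = K.orb D.d' := by
      rw [K.orb_mul K.ok.sd' (map_one _) K.he', mul_one]
    have h1 : π K.e' * K.orb D.d' * (π K.e')⁻¹ = K.orb (D.d' ^ 2) := by
      rw [K.orb_mul K.ok.sd' K.ok.sd' K.he', pow_two]
    have h2 : π K.e' * K.orb (D.d' ^ 2) * (π K.e')⁻¹ = K.orb 1 := by
      rw [K.orb_mul K.ok.sd' s2 K.he', ← pow_succ', K.d'3]
    calc π K.e' * (K.orb 1 * K.orb D.d' * K.orb (D.d' ^ 2)) * (π K.e')⁻¹
        = π K.e' * K.orb 1 * (π K.e')⁻¹ * (π K.e' * K.orb D.d' * (π K.e')⁻¹) *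
          (π K.e' * K.orb (D.d' ^ 2) * (π K.e')⁻¹) := by group
      _ = K.orb D.d' * K.orb (D.d' ^ 2) * K.orb 1 := by rw [h0, h1, h2]
      _ = _ := by
        rw [(K.orb_comm _ (mul_mem (K.orb_mem _) (K.orb_mem _)) _ (K.orb_mem _)).eq, ← mul_assoc]

theorem w_symm (K : EvenCtx X z φ C S v s D e G0 c) (i j : Fin 6) : K.w i j = K.w j i := by
  unfold w; rw [K.ok.q_symm i j]

theorem w_mem (K : EvenCtx X z φ C S v s D e G0 c) (i j : Fin 6) : K.w i j ∈ X.map π := K.orb_mem _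

theorem pt_mem (K : EvenCtx X z φ C S v s D e G0 c) (i : Fin 6) : K.pt i ∈ X.map π := by
  unfold pt; split
  exacts [one_mem _, K.w_mem _ _]

theorem triangle (K : EvenCtx X z φ C S v s D e G0 c) (O : D.Orbital) {i j : Fin 6} (hi : 0 < i)
    (hij : i < j) : K.w i j = K.w 0 i * K.w 0 j := by
  obtain ⟨r, -, hr, hri, hcase⟩ := O.tri i j hi hij
  obtain ⟨l, hl⟩ := K.base.surjA r hr
  have s2 : Perm.sign (D.d' ^ 2) = 1 := by rw [map_pow, K.ok.sd', one_pow]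
  have hprod : K.orb r * K.orb (r * D.d') * K.orb (r * D.d' ^ 2) = 1 := by
    have e0 := K.orb_mul hr (map_one _) hl
    rw [mul_one] at e0
    rw [← e0, ← K.orb_mul hr K.ok.sd' hl, ← K.orb_mul hr s2 hl, K.orb_one]
    calc _ = π l * (π v * K.orb D.d' * K.orb (D.d' ^ 2)) * (π l)⁻¹ := by group
      _ = 1 := by rw [K.orbit_kill]; group
  have h0 : K.orb r = K.w 0 i := K.orb_congr hr (K.ok.q_even _ _) hri
  have sr1 : Perm.sign (r * D.d') = 1 := by simp [hr, K.ok.sd']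
  have sr2 : Perm.sign (r * D.d' ^ 2) = 1 := by rw [map_mul, hr, s2, one_mul]
  have inv1 : ∀ {a : H ⧸ Subgroup.zpowers z}, a ∈ X.map π → a⁻¹ = a := fun ha =>
    inv_eq_of_mul_eq_one_right (K.sq_map _ ha)
  rcases hcase with ⟨h1, h2⟩ | ⟨h1, h2⟩
  · have e1 : K.orb (r * D.d') = K.w 0 j := K.orb_congr sr1 (K.ok.q_even _ _) h1
    have e2 : K.orb (r * D.d' ^ 2) = K.w i j := K.orb_congr sr2 (K.ok.q_even _ _) h2
    rw [h0, e1, e2] at hprod
    rw [eq_inv_of_mul_eq_one_right hprod, inv1 (mul_mem (K.w_mem _ _) (K.w_mem _ _))]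
  · have e1 : K.orb (r * D.d') = K.w i j := K.orb_congr sr1 (K.ok.q_even _ _) h1
    have e2 : K.orb (r * D.d' ^ 2) = K.w 0 j := K.orb_congr sr2 (K.ok.q_even _ _) h2
    rw [h0, e1, e2, mul_assoc, (K.orb_comm _ (K.w_mem i j) _ (K.w_mem 0 j)).eq, ← mul_assoc] at hprod
    rw [eq_inv_of_mul_eq_one_right hprod, inv1 (mul_mem (K.w_mem _ _) (K.w_mem _ _))]

theorem w_eq (K : EvenCtx X z φ C S v s D e G0 c) (O : D.Orbital) {i j : Fin 6} (hij : i ≠ j) :
    K.w i j = K.pt i * K.pt j := by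
  have key : ∀ {i j : Fin 6}, i < j → K.w i j = K.pt i * K.pt j := by
    intro i j h
    have hj : j ≠ 0 := Fin.ne_zero_of_lt h
    unfold pt
    rw [if_neg hj]
    by_cases hi : i = 0
    · rw [if_pos hi, hi, one_mul]
    · rw [if_neg hi, K.triangle O (Fin.pos_iff_ne_zero.2 hi) h]
  rcases lt_or_gt_of_ne hij with h | h
  · exact key h
  · rw [K.w_symm, key h, (K.orb_comm _ (K.pt_mem j) _ (K.pt_mem i)).eq]

theorem prod_all (K : EvenCtx X z φ C S v s D e G0 c) (O : D.Orbital) :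
    K.pt 0 * K.pt 1 * K.pt 2 * K.pt 3 * K.pt 4 * K.pt 5 = 1 := by
  have hu : K.w 0 1 * K.w 2 3 * K.w 4 5 ∈ X.map π :=
    mul_mem (mul_mem (K.w_mem _ _) (K.w_mem _ _)) (K.w_mem _ _)
  have hsum : ∀ g : Fin 6 → Fin 6, Function.Injective g →
      K.w (g 0) (g 1) * K.w (g 2) (g 3) * K.w (g 4) (g 5) =
        K.pt 0 * K.pt 1 * K.pt 2 * K.pt 3 * K.pt 4 * K.pt 5 := by
    intro g hg
    rw [K.w_eq O (hg.ne (by decide)), K.w_eq O (hg.ne (by decide)), K.w_eq O (hg.ne (by decide)),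
      ← prod_six (X.map π) K.orb_comm K.pt K.pt_mem g hg]
    group
  have hid := hsum id Function.injective_id
  obtain ⟨x, hx, hxe⟩ := hu
  simp only [id_eq] at hid
  rw [← hid, ← hxe]
  have key : ∀ (p σ : P6) (h : H), Perm.sign p = 1 → φ h = (1, p) → D.Matching p σ → x ∈ Fx z X h := by
    intro p σ h hp hh hM
    refine mem_Fx.2 ⟨hx, ?_⟩
    simp only [map_mul, map_inv]
    rw [hxe]
    obtain ⟨m1, m2, m3⟩ := hM
    have tr : ∀ a b a' b' : Fin 6, D.InN ((D.q a' b')⁻¹ * (p * D.q a b)) →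
        π h * K.w a b * (π h)⁻¹ = K.w a' b' := fun a b a' b' hm => by
      rw [w, K.orb_mul hp (K.ok.q_even _ _) hh]
      exact K.orb_congr (by simp [hp, K.ok.q_even]) (K.ok.q_even _ _) hm
    calc π h * (K.w 0 1 * K.w 2 3 * K.w 4 5) * (π h)⁻¹
        = π h * K.w 0 1 * (π h)⁻¹ * (π h * K.w 2 3 * (π h)⁻¹) * (π h * K.w 4 5 * (π h)⁻¹) := by group
      _ = K.w (σ 0) (σ 1) * K.w (σ 2) (σ 3) * K.w (σ 4) (σ 5) := by
        rw [tr _ _ _ _ m1, tr _ _ _ _ m2, tr _ _ _ _ m3]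
      _ = _ := by rw [hsum _ σ.injective, hid]
  exact K.kill (key D.d D.σd e K.ok.sd K.he O.md) (key D.d' D.σd' K.e' K.ok.sd' K.he' O.md')

theorem Y_le (K : EvenCtx X z φ C S v s D e G0 c) : K.Y ≤ X.map π :=
  (Subgroup.closure_le _).2 (by rintro a ⟨i, j, -, rfl⟩; exact K.w_mem i j)

theorem w_mem_Y (K : EvenCtx X z φ C S v s D e G0 c) {i j : Fin 6} (h : i ≠ j) : K.w i j ∈ K.Y := by
  rcases lt_or_gt_of_ne h with h' | h'
  · exact Subgroup.subset_closure ⟨i, j, h', rfl⟩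
  · exact Subgroup.subset_closure ⟨j, i, h', K.w_symm i j⟩

theorem Y_cases (K : EvenCtx X z φ C S v s D e G0 c) (O : D.Orbital) {a : H ⧸ Subgroup.zpowers z}
    (ha : a ∈ K.Y) : a = 1 ∨ ∃ i j, i ≠ j ∧ a = K.w i j := by
  have c2 : ∀ {i j : Fin 6}, Commute (K.pt i) (K.pt j) := fun {i j} =>
    K.orb_comm _ (K.pt_mem i) _ (K.pt_mem j)
  have s2 : ∀ i : Fin 6, K.pt i * K.pt i = 1 := fun i => K.sq_map _ (K.pt_mem i)
  have shared_pt : ∀ {i j l : Fin 6}, i ≠ j → i ≠ l →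
      K.w i j * K.w i l = 1 ∨ ∃ a b, a ≠ b ∧ K.w i j * K.w i l = K.w a b := by
    intro i j l hij hil
    by_cases hjl : j = l
    · subst hjl; exact Or.inl (K.sq_map _ (K.w_mem _ _))
    · refine Or.inr ⟨j, l, hjl, ?_⟩
      rw [K.w_eq O hij, K.w_eq O hil, K.w_eq O hjl, c2.eq, mul_assoc, ← mul_assoc (K.pt i), s2, one_mul]
  induction ha using Subgroup.closure_induction with
  | mem x hx => obtain ⟨i, j, h, rfl⟩ := hx; exact Or.inr ⟨i, j, h.ne, rfl⟩
  | one => exact Or.inl rfl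
  | inv x _ hx =>
    rcases hx with rfl | ⟨i, j, h, rfl⟩
    · exact Or.inl inv_one
    · exact Or.inr ⟨i, j, h, inv_eq_of_mul_eq_one_right (K.sq_map _ (K.w_mem i j))⟩
  | mul x y _ _ hx hy =>
    rcases hx with rfl | ⟨i, j, hij, rfl⟩
    · rwa [one_mul]
    rcases hy with rfl | ⟨k, l, hkl, rfl⟩
    · exact Or.inr ⟨i, j, hij, mul_one _⟩
    by_cases h1 : i = k
    · subst h1; exact shared_pt hij hkl
    by_cases h2 : i = l
    · subst h2; rw [K.w_symm k]; exact shared_pt hij hkl.symm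
    by_cases h3 : j = k
    · subst h3; rw [K.w_symm i]; exact shared_pt hij.symm hkl
    by_cases h4 : j = l
    · subst h4; rw [K.w_symm i, K.w_symm k]; exact shared_pt hij.symm hkl.symm
    obtain ⟨m, n, hinj⟩ := exists_two_others i j k l hij h1 h2 h3 h4 hkl
    have hmn : m ≠ n := by simpa using hinj.ne (show (4 : Fin 6) ≠ 5 by decide)
    have hp : K.pt i * K.pt j * K.pt k * K.pt l * K.pt m * K.pt n = 1 := by
      rw [← K.prod_all O, ← prod_six (X.map π) K.orb_comm K.pt K.pt_mem _ hinj]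
      simp
    refine Or.inr ⟨m, n, hmn, ?_⟩
    rw [K.w_eq O hij, K.w_eq O hkl, K.w_eq O hmn, ← mul_assoc]
    rw [mul_assoc (K.pt i * K.pt j * K.pt k * K.pt l)] at hp
    rw [eq_inv_of_mul_eq_one_left hp]
    exact inv_eq_of_mul_eq_one_right (K.sq_map _ (mul_mem (K.pt_mem m) (K.pt_mem n)))

theorem card_Y (K : EvenCtx X z φ C S v s D e G0 c) (O : D.Orbital) : Nat.card K.Y ≤ 16 := by
  let P := (Finset.univ : Finset (Fin 6 × Fin 6)).filter fun p => p.1 < p.2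
  let f : Fin 6 × Fin 6 → H ⧸ Subgroup.zpowers z := fun p => K.w p.1 p.2
  have hsub : (K.Y : Set (H ⧸ Subgroup.zpowers z)) ⊆ insert 1 (f '' (P : Set (Fin 6 × Fin 6))) := by
    intro a ha
    rcases K.Y_cases O ha with rfl | ⟨i, j, h, rfl⟩
    · exact Or.inl rfl
    · rcases lt_or_gt_of_ne h with h' | h'
      · exact Or.inr ⟨(i, j), by simp [P, h'], rfl⟩
      · exact Or.inr ⟨(j, i), by simp [P, h'], K.w_symm j i⟩
  have h1 := (Set.ncard_le_ncard hsub (Set.toFinite _)).trans (Set.ncard_insert_le _ _)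
  have h2 := Set.ncard_image_le (f := f) P.finite_toSet
  rw [Set.ncard_coe_finset] at h2
  have h3 : P.card = 15 := card_duads
  rw [← Nat.card_coe_set_eq] at h1
  have h4 : Nat.card ↥K.Y ≤ (f '' (P : Set (Fin 6 × Fin 6))).ncard + 1 := h1
  omega

theorem orb_mem_Y (K : EvenCtx X z φ C S v s D e G0 c) (O : D.Orbital) {x : P6}
    (hx : Perm.sign x = 1) : K.orb x ∈ K.Y := by
  obtain ⟨i, j, h, hn⟩ := O.cover x hx
  rw [K.orb_congr hx (K.ok.q_even i j) hn]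
  exact K.w_mem_Y h.ne

theorem orb_of_Y (K : EvenCtx X z φ C S v s D e G0 c) (O : D.Orbital) {a : H ⧸ Subgroup.zpowers z}
    (ha : a ∈ K.Y) : a = 1 ∨ ∃ x, Perm.sign x = 1 ∧ a = K.orb x :=
  (K.Y_cases O ha).imp id fun ⟨i, j, _, h⟩ => ⟨_, K.ok.q_even i j, h⟩

theorem mem_A (K : EvenCtx X z φ C S v s D e G0 c) {a : H} : a ∈ K.A ↔ a ∈ X ∧ π a ∈ K.Y := Iff.rfl

theorem z_mem_A (K : EvenCtx X z φ C S v s D e G0 c) : z ∈ K.A :=
  K.mem_A.2 ⟨K.base.good.x_mem, by rw [pz_z]; exact one_mem _⟩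

theorem v_mem_A (K : EvenCtx X z φ C S v s D e G0 c) (O : D.Orbital) : v ∈ K.A :=
  K.mem_A.2 ⟨K.pair.vX, K.orb_one ▸ K.orb_mem_Y O (map_one _)⟩

theorem norm_A (K : EvenCtx X z φ C S v s D e G0 c) (O : D.Orbital) {h a : H}
    (h1 : (φ h).1 = 1 ∨ (φ h).1 = s) (ha : a ∈ K.A) : h * a * h⁻¹ ∈ K.A := by
  refine K.mem_A.2 ⟨K.base.conj_mem h (K.mem_A.1 ha).1, ?_⟩
  simp only [map_mul, map_inv]
  rcases K.orb_of_Y O (K.mem_A.1 ha).2 with e1 | ⟨y, hy, e1⟩ <;> rw [e1]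
  · simp
  have key : ∀ g : H, (φ g).1 = 1 → ∀ y : P6, Perm.sign y = 1 →
      ∃ y', Perm.sign y' = 1 ∧ π g * K.orb y * (π g)⁻¹ = K.orb y' := by
    intro g hg y hy
    have hs : Perm.sign (φ g).2 = 1 := by rw [← K.rng g, hg, map_one]
    exact ⟨_, by rw [map_mul, hs, hy, one_mul], K.orb_mul hs hy (l := g) (Prod.ext hg rfl)⟩
  rcases h1 with h1 | h1
  · obtain ⟨y', hy', e2⟩ := key h h1 y hy
    rw [e2]; exact K.orb_mem_Y O hy'
  obtain ⟨ft, hft, hφt⟩ := K.mem_t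
  obtain ⟨y', hy', e2⟩ := key (ft⁻¹ * h)
    (by rw [map_mul, map_inv, hφt, Prod.fst_mul, Prod.fst_inv, h1, inv_mul_cancel]) y hy
  obtain ⟨m, hm⟩ := K.base.surjA y' hy'
  have st : Perm.sign (D.t * y' * D.t⁻¹) = 1 := by
    rw [map_mul, map_mul, map_inv, hy', mul_one, mul_inv_cancel]
  have e3 := K.orb_eq st (l := ft * m * ft⁻¹) (by
    rw [map_mul, map_mul, map_inv, hφt, hm]; exact Prod.ext (by simp) rfl)
  have e4 : π h * K.orb y * (π h)⁻¹ = π ft * K.orb y' * (π ft)⁻¹ := by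
    rw [← e2]; simp only [map_mul, map_inv]; group
  rw [e4, ← K.orb_eq hy' hm]
  have hc : π ft⁻¹ * π v * π ft = π v := by
    rw [map_inv, mul_assoc, ← map_mul, ← (K.pair.cv ft hft).eq, map_mul, inv_mul_cancel_left]
  have e5 : π ft * π (m * v * m⁻¹) * (π ft)⁻¹ = π (ft * m * ft⁻¹ * v * (ft * m * ft⁻¹)⁻¹) := by
    simp only [map_mul, map_inv, mul_inv_rev, inv_inv] at hc ⊢
    calc π ft * (π m * π v * (π m)⁻¹) * (π ft)⁻¹
        = π ft * (π m * ((π ft)⁻¹ * π v * π ft) * (π m)⁻¹) * (π ft)⁻¹ := by rw [hc]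
      _ = _ := by group
  rw [e5, e3]
  exact K.orb_mem_Y O st

theorem norm_lift_A (K : EvenCtx X z φ C S v s D e G0 c) (O : D.Orbital) :
    ∀ q l, IsLift φ q l → ∀ y ∈ K.A, l * y * l⁻¹ ∈ K.A :=
  fun _ _ hl _ hy => K.norm_A O (Or.inl (by rw [hl.1])) hy

theorem card_A (K : EvenCtx X z φ C S v s D e G0 c) (O : D.Orbital) : Nat.card K.A = 32 := by
  have hmap : K.A.map π = K.Y := by
    refine le_antisymm (by rintro _ ⟨a, ha, rfl⟩; exact ha.2) fun a ha => ?_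
    obtain ⟨x, hx, rfl⟩ := K.Y_le ha
    exact ⟨x, K.mem_A.2 ⟨hx, ha⟩, rfl⟩
  have hc := K.base.card_map K.z_mem_A
  rw [hmap] at hc
  have := K.card_Y O
  by_contra h
  exact K.e'_not_fix (K.base.trivial_of K.z_mem_A inf_le_left (by omega) (K.norm_lift_A O)
    (Or.inl (by omega)) D.d' K.e' ⟨K.he', K.ok.sd'⟩ v (K.v_mem_A O))

theorem trans_A (K : EvenCtx X z φ C S v s D e G0 c) (O : D.Orbital) {a : H} (ha : a ∈ K.A)
    (ha1 : π a ≠ 1) : ∃ q h, IsLift φ q h ∧ h * v * h⁻¹ = a := by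
  obtain ⟨y, hy, e1⟩ := (K.orb_of_Y O (K.mem_A.1 ha).2).resolve_left ha1
  obtain ⟨l, hl⟩ := K.base.surjA y hy
  obtain ⟨h, hφ, hh⟩ := K.base.exists_fix (K.mem_A.1 ha).1 ha1 ((K.orb_eq hy hl).trans e1.symm)
  exact ⟨y, h, ⟨hφ.trans hl, hy⟩, hh⟩

theorem sq_A (K : EvenCtx X z φ C S v s D e G0 c) (O : D.Orbital) {a : H} (ha : a ∈ K.A) :
    a * a = 1 := by
  by_cases ha1 : π a = 1
  · rcases eq_or_of_mem_zpowers K.base.good.x_sq (pz_eq_one_iff.1 ha1) with rfl | rfl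
    exacts [one_mul 1, K.base.good.x_sq]
  obtain ⟨q, h, -, rfl⟩ := K.trans_A O ha ha1
  calc h * v * h⁻¹ * (h * v * h⁻¹) = h * (v * v) * h⁻¹ := by group
    _ = 1 := by rw [K.pair.v_sq]; group

theorem comm_A (K : EvenCtx X z φ C S v s D e G0 c) (O : D.Orbital) {a b : H} (ha : a ∈ K.A)
    (hb : b ∈ K.A) : Commute a b := by
  have h := inv_eq_of_mul_eq_one_right (K.sq_A O (mul_mem ha hb))
  rw [mul_inv_rev, inv_eq_of_mul_eq_one_right (K.sq_A O ha),
    inv_eq_of_mul_eq_one_right (K.sq_A O hb)] at h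
  exact h.symm

theorem inter_A (K : EvenCtx X z φ C S v s D e G0 c) (O : D.Orbital) {a b : H} (ha : a ∈ K.A)
    (hb : b ∈ K.A) (h : π a = π (c * b * c⁻¹)) : π a = 1 := by
  by_contra ha1
  have hb1 : π b ≠ 1 := fun e1 => ha1 (by rw [h, map_mul, map_mul, e1]; simp)
  obtain ⟨q1, h1, hl1, rfl⟩ := K.trans_A O ha ha1
  obtain ⟨q2, h2, hl2, rfl⟩ := K.trans_A O hb hb1
  have hfix : π (h1⁻¹ * c * h2 * v * (h1⁻¹ * c * h2)⁻¹) = π v := by
    simp only [map_mul, map_inv, mul_inv_rev, inv_inv] at h ⊢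
    calc _ = (π h1)⁻¹ * (π c * (π h2 * π v * (π h2)⁻¹) * (π c)⁻¹) * π h1 := by group
      _ = π v := by rw [← h]; group
  obtain ⟨p, hp, hp3, hp1⟩ := K.hc
  rcases K.fam.fst_of_fix K.base K.hv K.hax hfix with e1 | e1 <;>
    simp only [map_mul, map_inv, hl1.1, hl2.1, hp, Prod.fst_mul, Prod.fst_inv, inv_one, one_mul,
      mul_one] at e1
  exacts [hp1 e1, (three_fst p hp3 hp1 s K.hax.1 K.hax.2.1).1 e1]

/-- The frame of `v`. -/
theorem toFrame (K : EvenCtx X z φ C S v s D e G0 c) (O : D.Orbital)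
    (hconj : ∀ w, C w → ∃ h, h * v * h⁻¹ = w) : AxisFrame X z φ C S v s K.A c where
  base := K.base
  fam := K.fam
  hv := K.hv
  hax := K.hax
  hD := by
    obtain ⟨p, hp, hp3, hp1⟩ := K.hc
    obtain ⟨-, -, -, h4, h5⟩ := three_fst p hp3 hp1 s K.hax.1 K.hax.2.1
    exact ⟨p, hp, h4, h5⟩
  A_le := inf_le_left
  z_mem := K.z_mem_A
  card_A := K.card_A O
  v_mem := K.v_mem_A O
  comm_A := K.comm_A O
  norm := K.norm_A O
  trans := K.trans_A O
  inter := K.inter_A O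
  conj_form := fun {w} hw => hconj w hw
  sig := fun t ht => by
    have h := K.rng t
    rw [ht, map_one, sign_invol_three s K.hax.1 K.hax.2.1] at h
    exact absurd h (by decide)

end EvenCtx

end Cfsg.Agent.Lib.LargeNine45.Even
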